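import Groth.Agent.SurfRR.Basic
import Groth.Agent.Duality.SmoothDual
import Groth.Agent.PnCI.Adjunction
import Groth.Agent.CurveBridge.RegularSmooth
import Groth.Agent.SurfNum.Basic

/-!
# Duality on projective surfaces
-/

set_option autoImplicit false
set_option linter.style.haveILetI false

universe u

open CategoryTheory CategoryTheory.Limits AlgebraicGeometry TopologicalSpace

namespace Groth.SurfRR

variable (k : Type u) [Field k] {X : Scheme.{u}} [X.Over (Spec (CommRingCat.of k))]

theorem isProper_of_embedding {N : ℕ} {ι : X ⟶ CohB1.ProjSpace N k} [IsClosedImmersion ι]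
    (hι : ι ≫ CohB1.ProjSpace.toSpec N k = X ↘ Spec (CommRingCat.of k)) :
    IsProper (X ↘ Spec (CommRingCat.of k)) := by
  haveI := Groth.Variety2.isProper_projSpace_toSpec N k
  rw [← hι]
  infer_instance

include k in
theorem isRegularLocalRing_stalk [Smooth (X ↘ Spec (CommRingCat.of k))] (x : X) :
    IsRegularLocalRing (X.presheaf.stalk x) := by
  let _ : Field ((Spec (CommRingCat.of k)).presheaf.stalk ((X ↘ Spec (CommRingCat.of k)) x)) :=
    (Variety2.isField_stalk (Subsingleton.elim (α := PrimeSpectrum k) _ _)).toField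
  have : IsRegularLocalRing
      ((Spec (CommRingCat.of k)).presheaf.stalk ((X ↘ Spec (CommRingCat.of k)) x)) := inferInstance
  exact Agf.RegularPoints.isRegularLocalRing_stalk_of_smooth (X ↘ Spec (CommRingCat.of k)) x

variable [IsProper (X ↘ Spec (CommRingCat.of k))] [IsIntegral X]

include k in
theorem ringKrullDim_stalk_closed (hdim : topologicalKrullDim X = 2) (x : X)
    (hx : IsClosed ({x} : Set X)) : ringKrullDim (X.presheaf.stalk x) = ((2 : ℕ) : WithBot ℕ∞) := by
  have h := Groth.Variety2.Dim.ringKrullDim_stalk_add_height (X ↘ Spec (CommRingCat.of k)) x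
  rw [(Groth.Variety2.Dim.height_eq_zero_iff x).2 hx, hdim] at h
  simpa using h

/-- A dualizing module of an integral Cohen–Macaulay projective surface gives the duality. -/
theorem dualEuler_of_cohenMacaulay (hdim : topologicalKrullDim X = 2)
    {N : ℕ} (ι : X ⟶ CohB1.ProjSpace N k) [IsClosedImmersion ι]
    (hCM : ∀ x : X, IsClosed ({x} : Set ↥X) → LocCoh.IsCohenMacaulayLocalRing (X.presheaf.stalk x))
    {ω : X.Modules} (hω : Coh.IsCoh ω) (t : Coh.HH X ω 2 →ₗ[k] k)
    (hdual : ∀ F : X.Modules, Coh.IsCoh F → ∀ ψ : Coh.HH X F 2 →ₗ[k] k,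
        ∃! φ : F ⟶ ω, ∀ x : Coh.HH X F 2,
          ψ x = t (Sheaf.H.map ((SheafOfModules.toSheaf X.ringCatSheaf).map φ) 2 x)) :
    DualEuler k ω :=
  dualEuler_of_dualizing k ι hdim
    (fun x hx => ⟨hCM x hx, ringKrullDim_stalk_closed k hdim x hx⟩) hω t hdual

/-- The top forms of a smooth projective surface are invertible and give the duality of dimensions. -/
theorem dualDim_topForms (hdim : topologicalKrullDim X = 2)
    [Smooth (X ↘ Spec (CommRingCat.of k))]
    {N : ℕ} (ι : X ⟶ CohB1.ProjSpace N k) [IsClosedImmersion ι]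
    (hι : ι ≫ CohB1.ProjSpace.toSpec N k = X ↘ Spec (CommRingCat.of k))
    {W : X.Modules} (hW : ExtPow.IsExtPow 2 (Omega.sheaf (X ↘ Spec (CommRingCat.of k))) W) :
    PicF.IsInvertible W ∧ DualDim k W := by
  haveI : SmoothOfRelativeDimension 2 (X ↘ Spec (CommRingCat.of k)) :=
    Groth.PnCI.smoothOfRelativeDimension_of_irreducible (X ↘ Spec (CommRingCat.of k)) hdim
  have hWi := Groth.LocFree.isInvertible_det
    (Groth.OmegaSheaf.isFinLocFreeOfRank_sheaf (X ↘ Spec (CommRingCat.of k)) 2) hW
  obtain ⟨t, ht⟩ := Groth.Duality.SmoothDual.exists_dualizing ι hι W hW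
  refine ⟨hWi, dualDim_of_dualizing k ι hdim (fun x hx => ⟨?_, ringKrullDim_stalk_closed k hdim x hx⟩)
    (Groth.Inter.isCoh_of_isInvertible hWi) t ht⟩
  haveI := isRegularLocalRing_stalk k x
  exact Groth.Calg4.isCohenMacaulayLocalRing_of_isRegularLocalRing _

/-- The top forms of a smooth projective surface are invertible and give the duality. -/
theorem dualEuler_topForms (hdim : topologicalKrullDim X = 2)
    [Smooth (X ↘ Spec (CommRingCat.of k))]
    {N : ℕ} (ι : X ⟶ CohB1.ProjSpace N k) [IsClosedImmersion ι]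
    (hι : ι ≫ CohB1.ProjSpace.toSpec N k = X ↘ Spec (CommRingCat.of k))
    {W : X.Modules} (hW : ExtPow.IsExtPow 2 (Omega.sheaf (X ↘ Spec (CommRingCat.of k))) W) :
    PicF.IsInvertible W ∧ DualEuler k W :=
  (dualDim_topForms k hdim ι hι hW).imp_right (dualEuler_of_dualDim k hdim.le)

include k in
theorem isEffCartier_ker (hdim : topologicalKrullDim X = 2)
    (hreg : ∀ x : X, IsRegularLocalRing (X.presheaf.stalk x))
    {C : Scheme.{u}} (i : C ⟶ X) [IsClosedImmersion i] [IsIntegral C]
    (hC : topologicalKrullDim C = 1) : BlowUp.IsEffCartierIdeal i.ker := by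
  haveI : IsIntegral i.ker.subscheme := IsIntegral.of_isIso i.toImage
  refine Groth.SurfNum.IsCurve.isEffCartier k hdim hreg ⟨inferInstance, ?_⟩
  rw [show (i.ker.support : Set X) = Set.range i by
    rw [Scheme.Hom.support_ker]; exact i.isClosedEmbedding.isClosed_range.closure_eq]
  exact (i.isClosedEmbedding.isEmbedding.toHomeomorph.isHomeomorph.topologicalKrullDim_eq _).symm.trans hC

end Groth.SurfRR
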