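import Groth.Agent.SurfRR.Smooth
import Groth.Agent.PicAux.EffCartierSection
import Groth.Agent.Inter.SectionDivisor
import Groth.Agent.Inter.NakaiCor
import Groth.Agent.SurfNum.Cones
import Groth.Agent.CohC3.ProperSupport

/-!
# Numerics of curves and sections on smooth projective surfaces
-/

set_option autoImplicit false
set_option linter.style.haveILetI false

universe u

open CategoryTheory CategoryTheory.Limits AlgebraicGeometry TopologicalSpace

namespace Groth.SurfRR

open Groth.Inter Groth.PicAux Groth.SurfNum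

variable (k : Type u) [Field k] {X : Scheme.{u}} [X.Over (Spec (CommRingCat.of k))]
  [IsProper (X ↘ Spec (CommRingCat.of k))] [IsIntegral X]

/-- The top forms of a smooth proper integral surface give the duality of dimensions. -/
theorem dualDim_topForms' [Smooth (X ↘ Spec (CommRingCat.of k))] (hdim : topologicalKrullDim X = 2)
    {W : X.Modules} (hW : ExtPow.IsExtPow 2 (Omega.sheaf (X ↘ Spec (CommRingCat.of k))) W) :
    PicF.IsInvertible W ∧ DualDim k W := by
  obtain ⟨N, ι, hc, hι⟩ := exists_embedding k hdim (isRegularLocalRing_stalk k)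
  exact dualDim_topForms k hdim ι hι hW

omit [X.Over (Spec (CommRingCat.of k))] [IsProper (X ↘ Spec (CommRingCat.of k))] [IsIntegral X] in
theorem nonempty_idealMod_top_iso :
    Nonempty (ClSub.idealMod (⊤ : X.IdealSheafData) ≅ Coh.structureModule X) := by
  have hz : IsZero (ClSub.quotMod (⊤ : X.IdealSheafData)) := by
    rw [QCohMod.isZero_iff_support_eq_empty]
    refine Set.eq_empty_iff_forall_notMem.2 fun x hx => ?_
    have h := (CohTwo.support_push_subset (⊤ : X.IdealSheafData).subschemeι _).trans
      (⊤ : X.IdealSheafData).range_subschemeι.le hx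
    simp at h
  have h0 : ClSub.toSubscheme (⊤ : X.IdealSheafData) = 0 := hz.eq_of_tgt _ _
  refine ⟨⟨kernel.ι (ClSub.toSubscheme (⊤ : X.IdealSheafData)),
    kernel.lift _ (𝟙 _) (by rw [Category.id_comp]; exact h0), ?_, kernel.lift_ι _ _ _⟩⟩
  refine (cancel_mono (kernel.ι (ClSub.toSubscheme (⊤ : X.IdealSheafData)))).1 ?_
  erw [Category.assoc, kernel.lift_ι, Category.comp_id]

theorem subsingleton_of_finrank_eq_zero {M : X.Modules} (hM : Coh.IsCoh M) {n : ℕ}
    (h : Module.finrank k (Coh.HH X M n) = 0) : Subsingleton (Coh.HH X M n) := by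
  haveI := EulerDeg.finite_HH k X hM n
  exact Module.finrank_zero_iff.1 h

include k in
omit [IsProper (X ↘ Spec (CommRingCat.of k))] in
theorem nontrivial_h0_structure : Nontrivial (Coh.HH X (Coh.structureModule X) 0) :=
  (nontrivial_h0_iff k _).2 ⟨𝟙 _, fun h => by
    have hz : IsZero (Coh.structureModule X) := (IsZero.iff_id_eq_zero _).2 h
    obtain ⟨z⟩ : Nonempty X := inferInstance
    refine (Set.eq_empty_iff_forall_notMem.1 ((QCohMod.isZero_iff_support_eq_empty _).1 hz) z) ?_
    change ¬ Subsingleton _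
    rw [not_subsingleton_iff_nontrivial]
    exact (RefRank.oneEquiv z).symm.toEquiv.nontrivial⟩

omit [X.Over (Spec (CommRingCat.of k))] [IsProper (X ↘ Spec (CommRingCat.of k))] [IsIntegral X] in
theorem isCurve_ker {C : Scheme.{u}} (i : C ⟶ X) [IsClosedImmersion i] [IsIntegral C]
    (hC : topologicalKrullDim C = 1) : IsCurve i.ker := by
  refine ⟨IsIntegral.of_isIso i.toImage, ?_⟩
  rw [show (i.ker.support : Set X) = Set.range i by
    rw [Scheme.Hom.support_ker]; exact i.isClosedEmbedding.isClosed_range.closure_eq]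
  exact (i.isClosedEmbedding.isEmbedding.toHomeomorph.isHomeomorph.topologicalKrullDim_eq).symm.trans hC

include k in
theorem exists_ample (hdim : topologicalKrullDim X = 2) (hreg : ∀ x : X, IsRegularLocalRing (X.presheaf.stalk x)) :
    ∃ A : X.Modules, CohB1.IsAmple A := by
  obtain ⟨U, hU, hx, -⟩ := exists_isAffineOpen_mem_and_subset
    (U := (⊤ : X.Opens)) (x := genericPoint X) trivial
  obtain ⟨D, hD, -, hamp⟩ := Groth.AffineDiv.exists_ample_divisor k hdim hreg hU ⟨_, hx⟩
  obtain ⟨A, -, hDA⟩ := exists_isInverseOf (isInvertible_idealMod hD)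
  exact ⟨A, hamp A (isInvertible_of_isInverseOf (isInvertible_idealMod hD) hDA) (isInverseOf_symm hDA)⟩

omit [IsIntegral X] in
/-- `H¹` of the ideal vanishes when `H⁰` restricts onto that of the subscheme and `H¹(O) = 0`. -/
theorem subsingleton_h1_ideal {C : X.IdealSheafData} (hI : PicF.IsInvertible (ClSub.idealMod C))
    (h1 : Subsingleton (Coh.HH X (Coh.structureModule X) 1))
    (h0 : Subsingleton (Coh.HH X (ClSub.idealMod C) 0))
    (hO : Module.finrank k (Coh.HH X (Coh.structureModule X) 0) = 1)
    (hQ : Module.finrank k (Coh.HH X (ClSub.quotMod C) 0) = 1) :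
    Subsingleton (Coh.HH X (ClSub.idealMod C) 1) := by
  have hS := shortExact_idealMod C
  haveI : IsNoetherian X := Groth.Inter.isNoetherian k
  haveI := EulerDeg.finite_HH k X (QCohMod.isCoh_unit (X := X)) 0
  haveI := EulerDeg.finite_HH k X (EulerDeg.isCoh_quotMod C) 0
  let g : Coh.HH X (Coh.structureModule X) 0 →ₗ[k] Coh.HH X (ClSub.quotMod C) 0 :=
    EulerDeg.hMap k (ClSub.toSubscheme C) 0
  have hg : Function.Injective g := (injective_iff_map_eq_zero _).2 fun x hx => by
    obtain ⟨y, rfl⟩ := (EulerDeg.exact_mid k hS 0 x).1 hx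
    haveI := h0
    rw [Subsingleton.elim y 0, map_zero]
  have hgs := (LinearMap.injective_iff_surjective_of_finrank_eq_finrank (hO.trans hQ.symm)).1 hg
  refine subsingleton_of_forall_eq 0 fun x => ?_
  obtain ⟨y, rfl⟩ := (EulerDeg.exact_left k hS 0 x).1 (@Subsingleton.elim _ h1 _ _)
  exact (EulerDeg.exact_right k hS 0 y).2 (hgs y)

omit [IsIntegral X] in
/-- `h¹` of a subscheme is at most `h²` of its ideal when `H¹(O) = 0`. -/
theorem finrank_h1_quot_le {C : X.IdealSheafData} (hI : PicF.IsInvertible (ClSub.idealMod C))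
    (h1 : Subsingleton (Coh.HH X (Coh.structureModule X) 1)) :
    Module.finrank k (Coh.HH X (ClSub.quotMod C) 1) ≤ Module.finrank k (Coh.HH X (ClSub.idealMod C) 2) := by
  have hS := shortExact_idealMod C
  haveI : IsNoetherian X := Groth.Inter.isNoetherian k
  haveI := EulerDeg.finite_HH k X (isCoh_of_isInvertible hI) 2
  let d : Coh.HH X (ClSub.quotMod C) 1 →ₗ[k] Coh.HH X (ClSub.idealMod C) 2 := EulerDeg.hDelta k hS 1
  refine LinearMap.finrank_le_finrank_of_injective (f := d) ((injective_iff_map_eq_zero _).2 fun x hx => ?_)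
  obtain ⟨y, rfl⟩ := (EulerDeg.exact_right k hS 1 x).1 hx
  exact (congrArg _ (@Subsingleton.elim _ h1 y 0)).trans (map_zero _)

variable (hdim : topologicalKrullDim X = 2)

include hdim

/-- A module of negative degree has no sections. -/
theorem subsingleton_h0_of_pair_neg {L A : X.Modules} (hL : PicF.IsInvertible L) (hA : CohB1.IsAmple A)
    (h : pair k L A < 0) : Subsingleton (Coh.HH X L 0) := by
  by_contra hne
  rw [not_subsingleton_iff_nontrivial] at hne
  exact absurd (pair_nonneg_of_nontrivial k hdim hA hL hne) h.not_ge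

/-- A module of degree zero with a section is trivial. -/
theorem iso_structure_of_pair_eq_zero {L A : X.Modules} (hL : PicF.IsInvertible L)
    (hsec : Nontrivial (Coh.HH X L 0)) (hA : CohB1.IsAmple A) (h : pair k L A = 0) :
    Nonempty (L ≅ Coh.structureModule X) := by
  obtain ⟨φ, hφ⟩ := (nontrivial_h0_iff k L).1 hsec
  have hreg' := regularSection_of_ne_zero hL hφ
  set D := PicF2.zeroScheme L φ
  have hD : BlowUp.IsEffCartierIdeal D := isEffCartierIdeal_zeroScheme hL hreg'
  have hDL : ClSub.IsInverseOf L (ClSub.idealMod D) := isInverseOf_zeroScheme hL hreg'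
  by_cases hT : D = ⊤
  · rw [hT] at hDL
    exact ⟨(tensor_one L).some.symm ≪≫ (tensor_comm _ _).some ≪≫
      (tensor_congr ⟨Iso.refl L⟩ ⟨nonempty_idealMod_top_iso.some.symm⟩).some ≪≫ hDL.some⟩
  · have h1 := pair_neg_of_ne_top k hdim hD hT hA
    rw [pair_inverse k hdim.le hL hDL hA.1, h] at h1
    simp at h1

section Curve

variable {C : X.IdealSheafData}

omit hdim in
theorem finrank_quotMod (n : ℕ) :
    letI : C.subscheme.Over (Spec (CommRingCat.of k)) := ⟨C.subschemeι ≫ (X ↘ Spec (CommRingCat.of k))⟩
    Module.finrank k (Coh.HH X (ClSub.quotMod C) n) =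
      Module.finrank k (Coh.HH C.subscheme (Coh.structureModule C.subscheme) n) := by
  letI : C.subscheme.Over (Spec (CommRingCat.of k)) := ⟨C.subschemeι ≫ (X ↘ Spec (CommRingCat.of k))⟩
  obtain ⟨e⟩ := ZetaAn.ProdCurves.quotMod_ker_iso C.subschemeι
  obtain ⟨f⟩ := CohC3.nonempty_linearEquiv_push_closed C.subschemeι (X ↘ Spec (CommRingCat.of k)) n
    (Coh.structureModule C.subscheme)
  have h : ClSub.quotMod C = ClSub.quotMod C.subschemeι.ker := by
    rw [Scheme.IdealSheafData.ker_subschemeι]
  rw [h, EulerDeg.finrank_congr (k := k) e n]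
  exact f.finrank_eq

omit hdim in
theorem finrank_h0_curve [IsAlgClosed k] (hC : IsCurve C) :
    Module.finrank k (Coh.HH X (ClSub.quotMod C) 0) = 1 := by
  letI : C.subscheme.Over (Spec (CommRingCat.of k)) := ⟨C.subschemeι ≫ (X ↘ Spec (CommRingCat.of k))⟩
  haveI : IsProper (C.subscheme ↘ Spec (CommRingCat.of k)) :=
    inferInstanceAs (IsProper (C.subschemeι ≫ (X ↘ Spec (CommRingCat.of k))))
  haveI := hC.1
  haveI := Groth.Inter.isNoetherian k (X := C.subscheme)
  rw [finrank_quotMod k 0]
  refine le_antisymm (finrank_h0_structure_le k) ?_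
  haveI := EulerDeg.finite_HH k C.subscheme (QCohMod.isCoh_unit (X := C.subscheme)) 0
  haveI : Nontrivial (Coh.HH C.subscheme (Coh.structureModule C.subscheme) 0) :=
    (nontrivial_h0_iff k _).2 ⟨𝟙 _, fun h => by
      have hz : IsZero (Coh.structureModule C.subscheme) := (IsZero.iff_id_eq_zero _).2 h
      obtain ⟨z⟩ : Nonempty C.subscheme := inferInstance
      have hs := (QCohMod.isZero_iff_support_eq_empty _).1 hz
      refine (Set.eq_empty_iff_forall_notMem.1 hs z) ?_
      change ¬ Subsingleton _
      rw [not_subsingleton_iff_nontrivial]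
      exact (RefRank.oneEquiv z).symm.toEquiv.nontrivial⟩
  exact Module.finrank_pos

omit hdim in
/-- The Euler characteristic of an integral curve is `1 - h¹`. -/
theorem euler_curve [IsAlgClosed k] (hC : IsCurve C) :
    letI : C.subscheme.Over (Spec (CommRingCat.of k)) := ⟨C.subschemeι ≫ (X ↘ Spec (CommRingCat.of k))⟩
    Curv2.euler k X (ClSub.quotMod C) =
      1 - (Module.finrank k (Coh.HH C.subscheme (Coh.structureModule C.subscheme) 1) : ℤ) := by
  letI : C.subscheme.Over (Spec (CommRingCat.of k)) := ⟨C.subschemeι ≫ (X ↘ Spec (CommRingCat.of k))⟩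
  haveI : IsProper (C.subscheme ↘ Spec (CommRingCat.of k)) :=
    inferInstanceAs (IsProper (C.subschemeι ≫ (X ↘ Spec (CommRingCat.of k))))
  have hd : topologicalKrullDim C.subscheme ≤ 1 := by
    rw [C.subschemeι.isClosedEmbedding.isEmbedding.toHomeomorph.isHomeomorph.topologicalKrullDim_eq,
      C.range_subschemeι]
    exact hC.2.le
  have h0 := finrank_h0_curve k hC
  rw [finrank_quotMod k 0] at h0
  have h := EulerDeg.euler_eq_h0_sub_h1 k C.subscheme hd (Coh.structureModule C.subscheme)
  rw [h0] at h
  rw [show Curv2.euler k X (ClSub.quotMod C) = Curv2.euler k C.subscheme (Coh.structureModule C.subscheme)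
    from finsum_congr fun n => by rw [finrank_quotMod k n]]
  exact_mod_cast h

omit hdim in
theorem euler_curve_le [IsAlgClosed k] (hC : IsCurve C) : Curv2.euler k X (ClSub.quotMod C) ≤ 1 := by
  rw [euler_curve k hC]; omega

omit hdim in
theorem euler_curve_eq_one_iff [IsAlgClosed k] (hC : IsCurve C) :
    Curv2.euler k X (ClSub.quotMod C) = 1 ↔
      Subsingleton (Coh.HH C.subscheme (Coh.structureModule C.subscheme) 1) := by
  letI : C.subscheme.Over (Spec (CommRingCat.of k)) := ⟨C.subschemeι ≫ (X ↘ Spec (CommRingCat.of k))⟩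
  haveI : IsProper (C.subscheme ↘ Spec (CommRingCat.of k)) :=
    inferInstanceAs (IsProper (C.subschemeι ≫ (X ↘ Spec (CommRingCat.of k))))
  haveI := hC.1
  haveI := Groth.Inter.isNoetherian k (X := C.subscheme)
  haveI := EulerDeg.finite_HH k C.subscheme (QCohMod.isCoh_unit (X := C.subscheme)) 1
  rw [euler_curve k hC, ← Module.finrank_zero_iff (R := k)]
  omega

/-- The adjunction formula for the ideal of an effective Cartier divisor. -/
theorem adjunction_quot {W : X.Modules} (hW : PicF.IsInvertible W) (hD : DualEuler k W)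
    (hI : PicF.IsInvertible (ClSub.idealMod C)) :
    pair k (ClSub.idealMod C) (ClSub.idealMod C) - pair k (ClSub.idealMod C) W =
      -2 * Curv2.euler k X (ClSub.quotMod C) := by
  haveI : IsNoetherian X := Groth.Inter.isNoetherian k
  have h := riemannRoch k hdim.le hW hD hI
  rw [intNum_eq_pair k hdim.le, intNum_eq_pair k hdim.le] at h
  have hadd := Inter.euler_add k (shortExact_idealMod C) (isCoh_of_isInvertible hI) (EulerDeg.isCoh_quotMod C)
  change Curv2.euler k X (Coh.structureModule X) =
    Curv2.euler k X (ClSub.idealMod C) + Curv2.euler k X (ClSub.quotMod C) at hadd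
  linarith

end Curve

/-- A class orthogonal to a class of positive square and not numerically trivial has negative square. -/
theorem pair_self_neg_of_orth {W I A : X.Modules} (hW : PicF.IsInvertible W) (hI : PicF.IsInvertible I)
    (hA : CohB1.IsAmple A) (hWW : 0 < pair k W W) (hIW : pair k W I = 0) (hIA : pair k I A < 0) :
    pair k I I < 0 := by
  refine lt_of_le_of_ne (pair_self_nonpos k hdim hA hW hI hWW hIW) fun h0 => ?_
  obtain ⟨P, hP, hpP⟩ := exists_comb k hdim.le hA.1 hW (pair k W W) (-pair k A W)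
  obtain ⟨M, hM, hpM⟩ := exists_comb k hdim.le hP hI 1 (-(|pair k P P| + 1))
  have hPI : pair k P I = pair k W W * pair k A I := by
    rw [hpP I hI, hIW]; ring
  have hPW : pair k P W = 0 := by rw [hpP W hW]; ring
  have hWM : pair k W M = 0 := by
    rw [pair_comm k, hpM W hW, hPW, pair_comm k I W, hIW]; ring
  have hle := pair_self_nonpos k hdim hA hW hM hWW hWM
  have hAI : pair k A I < 0 := by rwa [pair_comm k]
  have hneg : pair k P I ≤ -1 := by
    rw [hPI]
    nlinarith
  rw [hpM M hM, pair_comm k P M, pair_comm k I M, hpM P hP, hpM I hI, pair_comm k I P, h0] at hle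
  nlinarith [abs_nonneg (pair k P P), neg_abs_le (pair k P P)]

end Groth.SurfRR
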