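import Groth.Agent.SurfRR.Numerics
import Groth.Agent.PointBlowUp.Pairing
import Groth.Agent.Inter.PushFormula

/-!
# Euler characteristics of invertible modules under birational morphisms of surfaces
-/

set_option autoImplicit false
set_option linter.style.haveILetI false

universe u

open CategoryTheory CategoryTheory.Limits AlgebraicGeometry TopologicalSpace

namespace Groth.SurfRR

open Groth.Inter Groth.PicAux

variable (k : Type u) [Field k] {X : Scheme.{u}} [X.Over (Spec (CommRingCat.of k))]
  [IsProper (X ↘ Spec (CommRingCat.of k))]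

include k in
/-- A finite closed subset of a scheme of finite type over a field has dimension zero. -/
theorem dim_lt_one_of_finite {S : Set X} (hS : IsClosed S) (hf : S.Finite) :
    topologicalKrullDim S < ((1 : ℕ) : WithBot ℕ∞) := by
  haveI := LocallyOfFiniteType.jacobsonSpace (X ↘ Spec (CommRingCat.of k))
  haveI : JacobsonSpace S := JacobsonSpace.of_isClosedEmbedding hS.isClosedEmbedding_subtypeVal
  haveI := hf.to_subtype
  haveI : DiscreteTopology S := inferInstance
  exact lt_of_le_of_lt (topologicalKrullDim_zero_of_discreteTopology S)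
    (by exact_mod_cast (Nat.one_pos))

/-- Nothing supported in a finite set is seen by intersection symbols. -/
theorem delta_eq_zero_of_finite {l : List X.Modules} (hl : ∀ M ∈ l, PicF.IsInvertible M) (hpos : 0 < l.length)
    {U : X.Opens} (hU : ((U : Set X)ᶜ).Finite) {F : X.Modules} (hF : Coh.IsCoh F)
    (hoff : ∀ x ∈ U, x ∉ CohB1.support F) : delta k l F = 0 := by
  refine delta_eq_zero k _ hl _ hF (lt_of_lt_of_le (lt_of_le_of_lt
    (LocCohTransform.topologicalKrullDim_mono fun x hx => ?_)
    (dim_lt_one_of_finite k U.isOpen.isClosed_compl hU)) (by exact_mod_cast hpos))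
  exact fun h => hoff x h hx

/-- Morphisms bijective off a finite set do not change intersection symbols. -/
theorem delta_eq_of_bijective_off_finite {l : List X.Modules} (hl : ∀ M ∈ l, PicF.IsInvertible M)
    (hpos : 0 < l.length) {U : X.Opens} (hU : ((U : Set X)ᶜ).Finite) {F G : X.Modules} (φ : F ⟶ G)
    (hF : Coh.IsCoh F) (hG : Coh.IsCoh G)
    (hoff : ∀ x ∈ U, Function.Bijective ((QCohMod.stalk x).map φ)) : delta k l F = delta k l G := by
  haveI : IsNoetherian X := Groth.Inter.isNoetherian k
  have := hG.1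
  have := hF.1
  have hQ : Coh.IsCoh (cokernel φ) := QCohMod.isCoh_cokernel φ hG
  have hK : Coh.IsCoh (kernel φ) := QCohMod.isCoh_kernel φ hF
  have := hQ.1
  have hI : Coh.IsCoh (Abelian.image φ) := QCohMod.isCoh_kernel (cokernel.π φ) hG
  have hK0 := delta_eq_zero_of_finite k hl hpos hU hK fun x hx =>
    PointBlowUp.notMem_support_kernel φ x (hoff x hx).1
  have hQ0 := delta_eq_zero_of_finite k hl hpos hU hQ fun x hx =>
    CohTwo.notMem_support_cokernel φ x (hoff x hx).2
  have w : kernel.ι φ ≫ Abelian.factorThruImage φ = 0 := by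
    rw [← cancel_mono (Abelian.image.ι φ), Category.assoc, Abelian.image.fac, zero_comp, kernel.condition]
  let T : ShortComplex X.Modules := ShortComplex.mk (kernel.ι φ) (Abelian.factorThruImage φ) w
  let T' : ShortComplex X.Modules := ShortComplex.mk (kernel.ι φ) φ (kernel.condition φ)
  let ψ : T ⟶ T' :=
    { τ₁ := 𝟙 _, τ₂ := 𝟙 _, τ₃ := Abelian.image.ι φ
      comm₁₂ := (Category.id_comp _).trans (Category.comp_id _).symm
      comm₂₃ := (Category.id_comp _).trans (Abelian.image.fac φ).symm }
  have : Epi ψ.τ₁ := inferInstanceAs (Epi (𝟙 _))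
  have : IsIso ψ.τ₂ := inferInstanceAs (IsIso (𝟙 _))
  have : Mono ψ.τ₃ := inferInstanceAs (Mono (Abelian.image.ι φ))
  have hT' : T'.Exact := ShortComplex.exact_of_f_is_kernel _ (kernelIsKernel φ)
  have hT₁ : T.ShortExact :=
    { exact := (ShortComplex.exact_iff_of_epi_of_isIso_of_mono ψ).2 hT'
      mono_f := inferInstanceAs (Mono (kernel.ι φ))
      epi_g := inferInstanceAs (Epi (Abelian.factorThruImage φ)) }
  let T₂ : ShortComplex X.Modules := ShortComplex.mk (Abelian.image.ι φ) (cokernel.π φ) (kernel.condition _)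
  have hT₂ : T₂.ShortExact :=
    { exact := ShortComplex.exact_of_f_is_kernel _ (kernelIsKernel (cokernel.π φ))
      mono_f := inferInstanceAs (Mono (Abelian.image.ι φ))
      epi_g := inferInstanceAs (Epi (cokernel.π φ)) }
  have e₁ := delta_add k hl hT₁ hK hI
  have e₂ := delta_add k hl hT₂ hI hQ
  change delta k l F = delta k l (kernel φ) + delta k l (Abelian.image φ) at e₁
  change delta k l G = delta k l (Abelian.image φ) + delta k l (cokernel φ) at e₂
  omega

variable {X' : Scheme.{u}} [X'.Over (Spec (CommRingCat.of k))] [IsProper (X' ↘ Spec (CommRingCat.of k))]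

/-- Intersection symbols of direct images are additive off a finite set above which the map is finite. -/
theorem delta_push_add_of_finite (π : X' ⟶ X) [IsProper π] {l : List X.Modules}
    (hl : ∀ M ∈ l, PicF.IsInvertible M) (hpos : 0 < l.length) {U : X.Opens} (hU : ((U : Set X)ᶜ).Finite)
    (hfib : ∀ x ∈ U, (π ⁻¹' {x}).Finite) {S : ShortComplex X'.Modules} (hS : S.ShortExact)
    (h₁ : Coh.IsCoh S.X₁) (h₂ : Coh.IsCoh S.X₂) (h₃ : Coh.IsCoh S.X₃) :
    delta k l ((Coh.push π).obj S.X₂) =
      delta k l ((Coh.push π).obj S.X₁) + delta k l ((Coh.push π).obj S.X₃) := by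
  haveI : IsNoetherian X := Groth.Inter.isNoetherian k
  haveI : IsNoetherian X' := Groth.Inter.isNoetherian k
  have p₁ := isCoh_push_proper π h₁
  have p₂ := isCoh_push_proper π h₂
  have p₃ := isCoh_push_proper π h₃
  let φ := (Coh.push π).map S.g
  have := hS.mono_f
  have := p₃.1
  have := p₂.1
  have hQ : Coh.IsCoh (cokernel φ) := QCohMod.isCoh_cokernel φ p₃
  have := hQ.1
  have hK : Coh.IsCoh (Abelian.image φ) := QCohMod.isCoh_kernel (cokernel.π φ) p₃
  let T : ShortComplex X.Modules := ShortComplex.mk ((Coh.push π).map S.f) (Abelian.factorThruImage φ)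
    (by rw [← cancel_mono (Abelian.image.ι φ), Category.assoc, Abelian.image.fac, zero_comp,
      ← Functor.map_comp, S.zero, Functor.map_zero])
  have hT : T.ShortExact := by
    refine { exact := ?_, mono_f := inferInstanceAs (Mono ((Scheme.Modules.pushforward π).map S.f)),
             epi_g := inferInstanceAs (Epi (Abelian.factorThruImage φ)) }
    have hex : (S.map (Coh.push π)).Exact :=
      hS.exact.map_of_mono_of_preservesKernel _ hS.mono_f inferInstance
    let ψ : T ⟶ S.map (Coh.push π) :=
      { τ₁ := 𝟙 _, τ₂ := 𝟙 _, τ₃ := Abelian.image.ι φ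
        comm₁₂ := (Category.id_comp _).trans (Category.comp_id _).symm
        comm₂₃ := (Category.id_comp _).trans (Abelian.image.fac φ).symm }
    have : Epi ψ.τ₁ := inferInstanceAs (Epi (𝟙 _))
    have : IsIso ψ.τ₂ := inferInstanceAs (IsIso (𝟙 _))
    have : Mono ψ.τ₃ := inferInstanceAs (Mono (Abelian.image.ι φ))
    exact (ShortComplex.exact_iff_of_epi_of_isIso_of_mono ψ).2 hex
  let T' : ShortComplex X.Modules := ShortComplex.mk (Abelian.image.ι φ) (cokernel.π φ) (kernel.condition _)
  have hT' : T'.ShortExact :=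
    { exact := ShortComplex.exact_of_f_is_kernel _ (kernelIsKernel (cokernel.π φ))
      mono_f := inferInstanceAs (Mono (Abelian.image.ι φ))
      epi_g := inferInstanceAs (Epi (cokernel.π φ)) }
  have e₂ : delta k l ((Coh.push π).obj S.X₂) =
      delta k l ((Coh.push π).obj S.X₁) + delta k l (Abelian.image φ) := delta_add k hl hT p₁ hK
  have e₃ : delta k l ((Coh.push π).obj S.X₃) =
      delta k l (Abelian.image φ) + delta k l (cokernel φ) := delta_add k hl hT' hK hQ
  have h0 := delta_eq_zero_of_finite k hl hpos hU hQ fun x hx =>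
    notMem_support_cokernel_push π hS h₁ ((hfib x hx).subset Set.inter_subset_right)
  omega

omit [IsProper (X ↘ Spec (CommRingCat.of k))] [IsProper (X' ↘ Spec (CommRingCat.of k))]
  [X.Over (Spec (CommRingCat.of k))] [X'.Over (Spec (CommRingCat.of k))] in
theorem finite_fibre_of_isIso (π : X' ⟶ X) (U : X.Opens) [IsIso (π ∣_ U)] {x : X} (hx : x ∈ U) :
    (π ⁻¹' {x}).Finite := by
  refine Set.Subsingleton.finite fun a ha b hb => ?_
  have ha' : a ∈ π ⁻¹ᵁ U := by change π a ∈ U; rwa [show π a = x from ha]
  have hb' : b ∈ π ⁻¹ᵁ U := by change π b ∈ U; rwa [show π b = x from hb]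
  exact congrArg Subtype.val ((π ∣_ U).homeomorph.injective (a₁ := ⟨a, ha'⟩) (a₂ := ⟨b, hb'⟩)
    (Subtype.ext ((morphismRestrict_base_coe π U ⟨a, ha'⟩).trans
      ((show π a = π b from ha.trans hb.symm).trans (morphismRestrict_base_coe π U ⟨b, hb'⟩).symm))))

/-- Intersection numbers of pullbacks under a map of surfaces that is an isomorphism off a finite set. -/
theorem pair_pullback (hd : topologicalKrullDim X' ≤ (2 : ℕ)) (π : X' ⟶ X)
    (hπ : π ≫ (X ↘ Spec (CommRingCat.of k)) = X' ↘ Spec (CommRingCat.of k))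
    {U : X.Opens} (hU : ((U : Set X)ᶜ).Finite) [IsIso (π ∣_ U)]
    {L M : X.Modules} (hL : PicF.IsInvertible L) (hM : PicF.IsInvertible M) :
    pair k ((Scheme.Modules.pullback π).obj L) ((Scheme.Modules.pullback π).obj M) = pair k L M := by
  haveI : IsNoetherian X := Groth.Inter.isNoetherian k
  haveI : IsNoetherian X' := Groth.Inter.isNoetherian k
  haveI : IsProper π := by
    have : IsProper (π ≫ (X ↘ Spec (CommRingCat.of k))) := hπ ▸ inferInstance
    exact IsProper.of_comp π (X ↘ Spec (CommRingCat.of k))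
  have hl : ∀ N ∈ [L, M], PicF.IsInvertible N := by simp [hL, hM]
  have hO' : Coh.IsCoh (Coh.structureModule X') := QCohMod.isCoh_unit
  have e := delta_pullback_eq k π hπ hl hO' (dim_support_le hd _)
  simp only [List.map_cons, List.map_nil] at e
  exact e.trans (delta_eq_of_bijective_off_finite k hl (by simp) hU (ClSub.unitToPush π) QCohMod.isCoh_unit
    (isCoh_push_proper π hO') fun x hx => PointBlowUp.bijective_stalk_unitToPush π U x hx).symm

/-- `χ(π^*L) - χ(O) = χ(L) - χ(O)` for a map of surfaces that is an isomorphism off a finite set. -/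
theorem euler_pullback_sub [IsIntegral X'] (hd : topologicalKrullDim X' = 2) {A : X'.Modules}
    (hA : CohB1.IsAmple A) (π : X' ⟶ X)
    (hπ : π ≫ (X ↘ Spec (CommRingCat.of k)) = X' ↘ Spec (CommRingCat.of k))
    {U : X.Opens} (hU : ((U : Set X)ᶜ).Finite) [IsIso (π ∣_ U)]
    {L : X.Modules} (hL : PicF.IsInvertible L) :
    Curv2.euler k X' ((Scheme.Modules.pullback π).obj L) - Curv2.euler k X' (Coh.structureModule X') =
      Curv2.euler k X L - Curv2.euler k X (Coh.structureModule X) := by
  haveI : IsNoetherian X := Groth.Inter.isNoetherian k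
  haveI : IsNoetherian X' := Groth.Inter.isNoetherian k
  haveI : IsProper π := by
    have : IsProper (π ≫ (X ↘ Spec (CommRingCat.of k))) := hπ ▸ inferInstance
    exact IsProper.of_comp π (X ↘ Spec (CommRingCat.of k))
  have hl : ∀ N ∈ [L], PicF.IsInvertible N := by simp [hL]
  have hl' : ∀ N ∈ [(Scheme.Modules.pullback π).obj L], PicF.IsInvertible N := by
    simp [PicAux.isInvertible_pullback π hL]
  have hO' : Coh.IsCoh (Coh.structureModule X') := QCohMod.isCoh_unit
  obtain ⟨j₀, hj₀⟩ := exists_delta_pullback_eq k π hπ hA [L] hl _ hO'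
  obtain ⟨j, hj⟩ := exists_nontrivial_twist k hd hA hA.1 j₀
  set T := CohB1.tensorMod (CohB1.tensorPow A (j₀ + j)) (Coh.structureModule X') with hTdef
  obtain ⟨e₀⟩ := tensorPow_add A j₀ j
  have hT : PicF.IsInvertible T := PicAux.isInvertible_tensorMod
    (PicAux.isInvertible_tensorPow hA.1 _) (EulerDeg.isInvertible_structureModule X')
  let e₁ : T ≅ CohB1.tensorMod (CohB1.tensorPow A j₀) (CohB1.tensorPow A j) :=
    ((tensor_comm _ _).some ≪≫ (tensor_one _).some) ≪≫ e₀
  obtain ⟨φ, hφ⟩ := (nontrivial_h0_iff k _).1 hj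
  have hs : φ ≫ e₁.inv ≠ 0 := fun h => hφ (by
    rw [← cancel_mono e₁.inv, h, zero_comp])
  haveI := EulerDeg.mono_of_ne_zero (EulerDeg.isInvertible_structureModule X') hT hs
  have hQ : Coh.IsCoh (cokernel (φ ≫ e₁.inv)) := QCohMod.isCoh_cokernel _ (isCoh_of_isInvertible hT)
  have hS := CohTwo.cokerSeq_shortExact (φ ≫ e₁.inv)
  have hTc := isCoh_of_isInvertible hT
  -- the cokernel lives on a curve
  have hlt : topologicalKrullDim (CohB1.support (cokernel (φ ≫ e₁.inv))) ≤ (1 : ℕ) := by
    refine lt_natCast_succ_iff.1 (lt_of_lt_of_eq (LocCohTransform.topologicalKrullDim_lt_of_ssubset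
      (Set.subset_univ _) (fun h => ?_) (CohTwo.isClosed_support _ hQ) isClosed_univ
      (IrreducibleSpace.isIrreducible_univ X') ?_) ?_)
    · exact CohTwo.notMem_support_cokernel (φ ≫ e₁.inv) (genericPoint X')
        (EulerDeg.surjective_stalk_genericPoint (EulerDeg.isInvertible_structureModule X') hT hs)
        (h trivial)
    · rw [IsHomeomorph.topologicalKrullDim_eq _ (Homeomorph.Set.univ X').isHomeomorph, hd]
      exact WithBot.coe_lt_coe.2 (ENat.natCast_lt_top _)
    · rw [IsHomeomorph.topologicalKrullDim_eq _ (Homeomorph.Set.univ X').isHomeomorph, hd]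
      rfl
  have a1 := delta_add k hl' hS hO' hQ
  have a2 := delta_push_add_of_finite k π hl (by simp) hU (fun x hx => finite_fibre_of_isIso π U hx) hS
    hO' hTc hQ
  have a3 := hj₀ (j₀ + j) (Nat.le_add_right _ _)
  have a4 := delta_pullback_eq k π hπ hl hQ (by simpa using hlt)
  simp only [List.map_cons, List.map_nil] at a3 a4
  have a5 := delta_eq_of_bijective_off_finite k hl (by simp) hU (ClSub.unitToPush π) QCohMod.isCoh_unit
    (isCoh_push_proper π hO') fun x hx => PointBlowUp.bijective_stalk_unitToPush π U x hx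
  have key : delta k [(Scheme.Modules.pullback π).obj L] (Coh.structureModule X') =
      delta k [L] (Coh.structureModule X) := by
    linarith
  rw [delta_cons, delta_cons, delta_nil, delta_nil, delta_nil, delta_nil,
    EulerDeg.euler_congr k ((tensor_comm ((Scheme.Modules.pullback π).obj L) _).some ≪≫ (tensor_one _).some),
    EulerDeg.euler_congr k ((tensor_comm L _).some ≪≫ (tensor_one _).some)] at key
  linarith

end Groth.SurfRR
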