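import Groth.Agent.SurfRR.Numerics
import Groth.Agent.AffineDiv.DivH1
import Groth.Agent.AffineDiv.FundCycle
import Groth.Agent.RefRank.EffCartierDecomp
import Groth.Agent.BlowUpBasics.CartierDiv
import Groth.Agent.AlgSpCartier.ClosedSub
import Groth.Agent.ModelsGraphs.GlobalFunctions

/-!
# Unions of curves on a regular surface
-/

set_option autoImplicit false
set_option linter.style.haveILetI false

universe u

open CategoryTheory CategoryTheory.Limits AlgebraicGeometry TopologicalSpace

namespace Groth.SurfRR

open Groth.Inter Groth.PicAux Groth.SurfNum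

/-- An effective divisor not containing an integral closed subscheme meets it in the product. -/
theorem inf_eq_mul {X : Scheme.{u}} {P C : X.IdealSheafData} (hP : BlowUp.IsEffCartierIdeal P)
    (hCint : IsIntegral C.subscheme) (hne : ¬ (C.support : Set X) ⊆ P.support) : P ⊓ C = P * C := by
  haveI := hCint
  obtain ⟨T, hT⟩ := Groth.BlowUpBasics.exists_eq_mul_of_le hP (inf_le_left : P ⊓ C ≤ P)
  let η : X := C.subschemeι (genericPoint C.subscheme)
  have hη : closure ({η} : Set X) = (C.support : Set X) := by
    have h : IsGenericPoint η (closure (C.subschemeι '' Set.univ)) :=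
      (genericPoint_spec C.subscheme).image C.subschemeι.continuous
    rwa [IsGenericPoint, Set.image_univ, C.range_subschemeι, C.support.isClosed.closure_eq] at h
  have hηC : η ∈ (C.support : Set X) := hη ▸ subset_closure rfl
  have hηT : η ∈ (T.support : Set X) := by
    have hsupp : η ∈ ((T * P).support : Set X) := by
      rw [← hT]
      exact Scheme.IdealSheafData.support_antitone inf_le_right hηC
    rw [Scheme.IdealSheafData.support_mul] at hsupp
    exact hsupp.resolve_right fun h => hne (by
      rw [← hη]; exact P.support.isClosed.closure_subset_iff.2 (Set.singleton_subset_iff.2 h))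
  have hTC : T ≤ C := Groth.RefRank.EffCartierLocal.le_of_isReduced_subscheme (by
    rw [← hη]; exact T.support.isClosed.closure_subset_iff.2 (Set.singleton_subset_iff.2 hηT))
  refine le_antisymm ?_ (le_inf (fun W => ?_) (fun W => ?_))
  · rw [hT, mul_comm T P]
    intro W
    simp only [Scheme.IdealSheafData.ideal_mul, Pi.mul_apply]
    exact Ideal.mul_mono le_rfl (hTC W)
  · simp only [Scheme.IdealSheafData.ideal_mul, Pi.mul_apply]
    exact Ideal.mul_le_left
  · simp only [Scheme.IdealSheafData.ideal_mul, Pi.mul_apply]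
    exact Ideal.mul_le_right

variable (k : Type u) [Field k] {X : Scheme.{u}} [X.Over (Spec (CommRingCat.of k))]
  [IsProper (X ↘ Spec (CommRingCat.of k))] [IsIntegral X]

variable (hdim : topologicalKrullDim X = 2) (hreg : ∀ x : X, IsRegularLocalRing (X.presheaf.stalk x))

include k hdim hreg in
/-- The union of distinct curves is their product. -/
theorem prod_eq_iInf {ι : Type} [Fintype ι] (C : ι → X.IdealSheafData) (hC : ∀ i, IsCurve (C i))
    (hinj : Function.Injective fun i => ((C i).support : Set X)) :
    (∏ i, C i) = ⨅ i, C i := by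
  classical
  suffices key : ∀ s : Finset ι, BlowUp.IsEffCartierIdeal (∏ i ∈ s, C i) ∧
      ((∏ i ∈ s, C i).support : Set X) = ⋃ i ∈ s, ((C i).support : Set X) ∧
      (∏ i ∈ s, C i) = s.inf C by
    rw [(key Finset.univ).2.2, Finset.inf_univ_eq_iInf]
  intro s
  induction s using Finset.induction_on with
  | empty =>
    refine ⟨by simpa using Divisors.isEffCartierIdeal_top, by simp, ?_⟩
    rw [Finset.prod_empty, Finset.inf_empty, Scheme.IdealSheafData.one_eq_top]
  | @insert i s hi ih =>
    obtain ⟨h1, h2, h3⟩ := ih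
    have hCi := (hC i).isEffCartier k hdim hreg
    rw [Finset.prod_insert hi, Finset.inf_insert]
    refine ⟨Divisors.isEffCartierIdeal_mul hCi h1, ?_, ?_⟩
    · rw [Scheme.IdealSheafData.support_mul, Closeds.coe_sup, h2, Finset.set_biUnion_insert]
    · rw [← h3, mul_comm, ← inf_eq_mul h1 (hC i).1, inf_comm]
      intro hsub
      obtain ⟨ξ, hξi, -⟩ := (hC i).exists_pt
      have hξ : ξ ∈ ((∏ j ∈ s, C j).support : Set X) := hsub (by
        rw [hξi, SurfNum.support_ptIdeal]; exact subset_closure rfl)
      rw [h2] at hξ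
      simp only [Set.mem_iUnion] at hξ
      obtain ⟨j, hj, hξj⟩ := hξ
      have hij : C i = C j := (hC i).eq_of_subset (hC j) (by
        rw [hξi, SurfNum.support_ptIdeal]
        exact (C j).support.isClosed.closure_subset_iff.2 (Set.singleton_subset_iff.2 hξj))
      exact hi (hinj (congrArg (fun I : X.IdealSheafData => (I.support : Set X)) hij) ▸ hj)

/-- A connected reduced closed subscheme has only constant functions. -/
theorem finrank_h0_quot_of_connected [IsAlgClosed k] (Y : X.IdealSheafData) [IsReduced Y.subscheme]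
    [ConnectedSpace Y.subscheme] : Module.finrank k (Coh.HH X (ClSub.quotMod Y) 0) ≤ 1 := by
  rw [Groth.AffineDiv.finrank_h0_quot_eq k Y]
  let g := Y.subschemeι ≫ (X ↘ Spec (CommRingCat.of k))
  let F : k →+* Γ(Y.subscheme, ⊤) := g.appTop.hom.comp (Scheme.ΓSpecIso (CommRingCat.of k)).inv.hom
  letI := F.toAlgebra
  haveI : Nonempty (⊤ : Y.subscheme.Opens) := ⟨⟨Classical.arbitrary Y.subscheme, trivial⟩⟩
  refine finrank_le_one 1 fun a => ?_
  obtain ⟨m, hm, hma⟩ := isIntegral_appTop_of_universallyClosed g a
  obtain ⟨q, hq, hqa⟩ : ∃ q : Polynomial k, q.Monic ∧ Polynomial.aeval a q = 0 := by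
    refine ⟨m.map (Scheme.ΓSpecIso (CommRingCat.of k)).hom.hom, hm.map _, ?_⟩
    rw [Polynomial.aeval_def, Polynomial.eval₂_map, RingHom.algebraMap_toAlgebra]
    rw [show F.comp (Scheme.ΓSpecIso (CommRingCat.of k)).hom.hom = g.appTop.hom by ext c; simp [F]]
    exact hma
  obtain ⟨r, -, hr⟩ := Groth.ModelsGraphs.GlobalFun.exists_eq_of_aeval_eq_zero
    (Groth.ModelsGraphs.GlobalFun.eq_zero_or_one_of_idem (P := Y.subscheme)) a q hq hqa
  exact ⟨r, by rw [Algebra.smul_def, mul_one, hr]⟩

end Groth.SurfRR
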