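import Groth.Agent.SurfRR.Birational
import Groth.Agent.PnCoh.Euler
import Groth.Agent.Variety2.ProjDim
import Groth.Agent.KTheory.RegKoszulSerre
import Groth.Agent.Duality.PnPairing
import Groth.Agent.Divisors.BlowUpBasic
import Groth.Agent.Duality.SheafHomTwist

/-!
# The class of a line on a blow-up of the plane in finitely many points
-/

set_option autoImplicit false
set_option linter.style.haveILetI false

universe u

open CategoryTheory CategoryTheory.Limits AlgebraicGeometry TopologicalSpace

namespace Groth.SurfRR.Plane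

open Groth.Inter Groth.PicAux

variable (k : Type u) [Field k]

noncomputable local instance : (CohB1.ProjSpace 2 k).Over (Spec (CommRingCat.of k)) := ⟨CohB1.ProjSpace.toSpec 2 k⟩

/-- `χ(O(d))` on the plane. -/
theorem euler_twist (d : ℕ) :
    Curv2.euler k (CohB1.ProjSpace 2 k) (Twist.twistProjSpace 2 k (d : ℤ)) = ((d + 2).choose 2 : ℕ) := by
  have h1 := Groth.PnCoh.euler_twist k 2 (d : ℤ)
  rw [show (d : ℤ) + ((2 : ℕ) : ℤ) = ((d + 2 : ℕ) : ℤ) by push_cast; ring, Ring.choose_natCast] at h1
  unfold Curv2.euler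
  rw [finsum_eq_sum_of_support_subset (s := Finset.range 3) _ fun i hi => ?_]
  · exact h1
  · simp only [Function.mem_support] at hi
    by_contra h
    simp only [Finset.coe_range, Set.mem_Iio, not_lt] at h
    refine hi ?_
    rw [Groth.PnCoh.finrank_eq_zero k 2 (d : ℤ) i (by omega) (by omega), Nat.cast_zero, mul_zero]

theorem euler_structure : Curv2.euler k (CohB1.ProjSpace 2 k) (Coh.structureModule _) = 1 := by
  have h := euler_twist k 0
  obtain ⟨e⟩ := Groth.Duality.Pn.nonempty_twist_zero_iso' (n := 2) (R := k)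
  rw [Nat.cast_zero, EulerDeg.euler_congr k e] at h
  simpa using h

variable {r : ℕ} (P : Fin r → ↥(CohB1.ProjSpace 2 k)) (hZ : IsClosed (Set.range P))
  {X : Scheme.{u}} [X.Over (Spec (CommRingCat.of k))] (σ : X ⟶ CohB1.ProjSpace 2 k)
  (hσk : σ ≫ CohB1.ProjSpace.toSpec 2 k = X ↘ (Spec (CommRingCat.of k)))
  (hσ : BlowUp.IsBlowUp σ (Scheme.IdealSheafData.vanishingIdeal ⟨Set.range P, hZ⟩))
  [IsIntegral X] [IsProper (X ↘ (Spec (CommRingCat.of k)))] [Smooth (X ↘ (Spec (CommRingCat.of k)))]
  (hdim : topologicalKrullDim X = 2)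

/-- The pullback of the class of a line. -/
noncomputable abbrev line : X.Modules :=
  (Scheme.Modules.pullback σ).obj (Twist.twistProjSpace 2 k 1)

omit [X.Over (Spec (CommRingCat.of k))] [IsIntegral X] [IsProper (X ↘ (Spec (CommRingCat.of k)))] [Smooth (X ↘ (Spec (CommRingCat.of k)))] in
theorem isInvertible_line : PicF.IsInvertible (line k σ) :=
  PicAux.isInvertible_pullback _ (Groth.PnCoh.isInvertible_twist 2 k 1)

include hσk hσ hdim

/-- Self-intersection of a line class and its degree against the canonical class. -/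
theorem pair_line {W : X.Modules} (hW : ExtPow.IsExtPow 2 (Omega.sheaf (X ↘ (Spec (CommRingCat.of k)))) W) :
    pair k (line k σ) (line k σ) = 1 ∧ pair k (line k σ) W = -3 := by
  haveI : IsProper (CohB1.ProjSpace 2 k ↘ Spec (CommRingCat.of k)) :=
    inferInstanceAs (IsProper (CohB1.ProjSpace.toSpec 2 k))
  obtain ⟨A, hA⟩ := exists_ample k hdim (isRegularLocalRing_stalk k (X := X))
  haveI := Groth.Divisors.isIso_morphismRestrict_compl hσ
  have hU : ((Groth.Divisors.complOpens (Scheme.IdealSheafData.vanishingIdeal ⟨Set.range P, hZ⟩) :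
      (CohB1.ProjSpace 2 k).Opens) : Set (CohB1.ProjSpace 2 k))ᶜ.Finite := by
    refine (Set.finite_range P).subset fun x hx => ?_
    have hx' : x ∈ ((Scheme.IdealSheafData.vanishingIdeal (⟨Set.range P, hZ⟩ : Closeds _)).support :
        Set (CohB1.ProjSpace 2 k)) := not_not.1 hx
    rwa [Scheme.IdealSheafData.coe_support_vanishingIdeal] at hx'
  have hd2 : topologicalKrullDim (CohB1.ProjSpace 2 k) ≤ (2 : ℕ) := (Variety2.PSpace.dim_projSpace (k := k) (n := 2)).le
  have h1i := Groth.PnCoh.isInvertible_twist 2 k 1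
  have e1 := euler_pullback_sub k hdim hA σ hσk hU h1i
  have hH := isInvertible_line k σ
  have hpp := pair_pullback k hdim.le σ hσk hU h1i h1i
  rw [pair_eq k (Twist.twistProjSpace 2 k 1) (Twist.twistProjSpace 2 k 1), euler_structure,
    EulerDeg.euler_congr k (Groth.Duality.Pn.nonempty_twist_tensor 2 k 1 1).some] at hpp
  have t1 := euler_twist k 1
  have t2 := euler_twist k 2
  norm_num [Nat.choose] at t1 t2 hpp
  rw [euler_structure] at e1
  obtain ⟨hWi, hDD⟩ := dualDim_topForms' k hdim hW
  have hRR := riemannRoch k hdim.le hWi (dualEuler_of_dualDim k hdim.le hDD) hH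
  rw [intNum_eq_pair k hdim.le, intNum_eq_pair k hdim.le] at hRR
  refine ⟨by linarith, by linarith⟩

omit hσ in
/-- An effective divisor meets the class of a line nonnegatively. -/
theorem pair_ideal_line_nonpos {D : X.IdealSheafData} (hD : BlowUp.IsEffCartierIdeal D) :
    pair k (ClSub.idealMod D) (line k σ) ≤ 0 := by
  haveI : IsProper (CohB1.ProjSpace 2 k ↘ Spec (CommRingCat.of k)) :=
    inferInstanceAs (IsProper (CohB1.ProjSpace.toSpec 2 k))
  haveI : IsNoetherian X := Groth.Inter.isNoetherian k
  obtain ⟨A, hA⟩ := exists_ample k hdim (isRegularLocalRing_stalk k (X := X))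
  haveI : IsProper σ := by
    have : IsProper (σ ≫ CohB1.ProjSpace.toSpec 2 k) := hσk ▸ inferInstance
    exact IsProper.of_comp σ (CohB1.ProjSpace.toSpec 2 k)
  have h1 := Groth.KTheory.RegKoszul.isAmple_twistProjSpace_one 2 k
  obtain ⟨N, -, hN⟩ := exists_isInverseOf h1.1
  have hNi : IsAmpleInv N := ⟨_, h1, hN⟩
  have hnn : Nonneg k [(Scheme.Modules.pullback σ).obj N] :=
    nonneg_pullback k σ hσk hA (l := [N]) (by simpa using hNi.isInvertible)
      (fun F hF hd => delta_nonneg k (by simpa using hNi) hF hd)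
  have hH := isInvertible_line k σ
  have hHN : ClSub.IsInverseOf (line k σ) ((Scheme.Modules.pullback σ).obj N) :=
    PicAux.isInverseOf_pullback σ hN
  have hI := isInvertible_idealMod hD
  obtain ⟨hc, hsup⟩ := Groth.Inter.support_quotMod k D
  have h := hnn _ hc (by rw [hsup]; exact SurfNum.dim_support_le_one k hdim hD)
  rw [← SurfNum.pair_idealMod k hD (isInvertible_of_isInverseOf hH hHN), pair_comm k,
    pair_inverse k hdim.le hH hHN hI, pair_comm k] at h
  linarith

omit hσ in
/-- A module with a section meets the class of a line nonnegatively. -/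
theorem pair_line_nonneg {L : X.Modules} (hL : PicF.IsInvertible L) (h : Nontrivial (Coh.HH X L 0)) :
    0 ≤ pair k L (line k σ) := by
  obtain ⟨φ, hφ⟩ := (nontrivial_h0_iff k L).1 h
  have hreg := regularSection_of_ne_zero hL hφ
  have hD : BlowUp.IsEffCartierIdeal (PicF2.zeroScheme L φ) := isEffCartierIdeal_zeroScheme hL hreg
  have h' := pair_ideal_line_nonpos k σ hσk hdim hD
  rw [pair_inverse k hdim.le hL (isInverseOf_zeroScheme hL hreg) (isInvertible_line k σ)] at h'
  linarith

end Groth.SurfRR.Plane
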