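import Groth.Agent.SurfRR.Numerics
import Groth.Agent.AffineDiv.FundCycle

/-!
# Modules of negative degree on a curve of a surface
-/

set_option autoImplicit false
set_option linter.style.haveILetI false

universe u

open CategoryTheory CategoryTheory.Limits AlgebraicGeometry TopologicalSpace

namespace Groth.SurfRR

open Groth.Inter Groth.PicAux Groth.SurfNum

variable (k : Type u) [Field k] {X : Scheme.{u}} [X.Over (Spec (CommRingCat.of k))]
  [IsProper (X ↘ Spec (CommRingCat.of k))] [IsIntegral X]
  (hdim : topologicalKrullDim X = 2) (hreg : ∀ x : X, IsRegularLocalRing (X.presheaf.stalk x))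

include hdim hreg

/-- A module of negative degree on a curve has no sections on it. -/
theorem subsingleton_h0_restrict [IsAlgClosed k] {E : X.IdealSheafData} (hE : IsCurve E) {M : X.Modules}
    (hM : PicF.IsInvertible M) (h : 0 < pair k (ClSub.idealMod E) M) :
    Subsingleton (Coh.HH X (CohB1.tensorMod (ClSub.quotMod E) M) 0) := by
  haveI : IsNoetherian X := Groth.Inter.isNoetherian k
  haveI := hE.1
  have hQ : Coh.IsCoh (CohB1.tensorMod (ClSub.quotMod E) M) :=
    QCohMod.isCoh_of_iso (tensor_comm _ _).some (isCoh_twist hM (EulerDeg.isCoh_quotMod E))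
  rcases Groth.AffineDiv.h0_curve_le k hE.2.le hM with h' | h'
  · rw [deg_eq k (hE.isEffCartier k hdim hreg) hM] at h'
    exact subsingleton_of_finrank_eq_zero k hQ (by omega)
  · exact h'

/-- The Euler characteristic under twisting down by a curve. -/
theorem euler_twist_curve {E : X.IdealSheafData} (hE : IsCurve E) {M : X.Modules}
    (hM : PicF.IsInvertible M) :
    Curv2.euler k X M = Curv2.euler k X (CohB1.tensorMod M (ClSub.idealMod E)) +
      Curv2.euler k X (ClSub.quotMod E) - pair k (ClSub.idealMod E) M := by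
  haveI : IsNoetherian X := Groth.Inter.isNoetherian k
  obtain ⟨S, hS, ⟨e₁⟩, ⟨e₂⟩, ⟨e₃⟩⟩ := exists_shortExact_twist hM (shortExact_idealMod E)
  have hI := hE.isInvertible k hdim hreg
  have h := Groth.Inter.euler_add k hS
    (QCohMod.isCoh_of_iso e₁.symm (isCoh_twist hM (isCoh_of_isInvertible hI)))
    (QCohMod.isCoh_of_iso e₃.symm (isCoh_twist hM (EulerDeg.isCoh_quotMod E)))
  rw [EulerDeg.euler_congr k e₁, EulerDeg.euler_congr k e₂, EulerDeg.euler_congr k e₃,
    EulerDeg.euler_congr k ((tensor_comm M (Coh.structureModule X)).some ≪≫ (tensor_one M).some),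
    EulerDeg.euler_congr k (tensor_comm M (ClSub.quotMod E)).some] at h
  have h' := deg_eq k (hE.isEffCartier k hdim hreg) hM
  linarith

/-- Twisting down by a curve on which the degree is negative keeps all sections. -/
theorem finrank_h0_twist_curve [IsAlgClosed k] {E : X.IdealSheafData} (hE : IsCurve E) {M : X.Modules}
    (hM : PicF.IsInvertible M) (h : 0 < pair k (ClSub.idealMod E) M) :
    Module.finrank k (Coh.HH X (CohB1.tensorMod M (ClSub.idealMod E)) 0) =
      Module.finrank k (Coh.HH X M 0) := by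
  obtain ⟨S, hS, ⟨e₁⟩, ⟨e₂⟩, ⟨e₃⟩⟩ := exists_shortExact_twist hM (shortExact_idealMod E)
  haveI := subsingleton_h0_restrict k hdim hreg hE hM h
  haveI : Subsingleton (Coh.HH X S.X₃ 0) :=
    (EulerDeg.hEquiv k (e₃ ≪≫ (tensor_comm M (ClSub.quotMod E)).some) 0).toEquiv.subsingleton
  have hb : Function.Bijective (EulerDeg.hMap k S.f 0) :=
    ⟨EulerDeg.injective_zero k hS, fun y => (EulerDeg.exact_mid k hS 0 y).1 (Subsingleton.elim _ _)⟩
  rw [← EulerDeg.finrank_congr (k := k) e₁ 0, (LinearEquiv.ofBijective _ hb).finrank_eq,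
    EulerDeg.finrank_congr (k := k) e₂ 0,
    EulerDeg.finrank_congr (k := k) ((tensor_comm M (Coh.structureModule X)).some ≪≫ (tensor_one M).some) 0]

/-- Twisting down repeatedly by a curve of self-intersection `-1`. -/
theorem finrank_h0_twist_curve_pow [IsAlgClosed k] {E : X.IdealSheafData} (hE : IsCurve E)
    (hEE : pair k (ClSub.idealMod E) (ClSub.idealMod E) = -1) {M : X.Modules} (hM : PicF.IsInvertible M) :
    ∀ j : ℕ, (j : ℤ) ≤ pair k (ClSub.idealMod E) M →
      Module.finrank k (Coh.HH X (CohB1.tensorMod M (ClSub.idealMod (E ^ j))) 0) =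
        Module.finrank k (Coh.HH X M 0)
  | 0, _ => by
    obtain ⟨e⟩ := nonempty_idealMod_top_iso (X := X)
    rw [pow_zero, Scheme.IdealSheafData.one_eq_top]
    exact EulerDeg.finrank_congr (k := k)
      ((tensor_congr ⟨Iso.refl M⟩ ⟨e⟩).some ≪≫ (tensor_comm _ _).some ≪≫ (tensor_one M).some) 0
  | j + 1, hj => by
    have hEc := hE.isEffCartier k hdim hreg
    have hp := Divisors.isEffCartierIdeal_pow hEc j
    have hI := isInvertible_idealMod hp
    obtain ⟨e⟩ := PicAux.idealMod_mul hp hEc
    rw [pow_succ, ← EulerDeg.finrank_congr (k := k)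
      ((tensor_assoc M _ _).some ≪≫ (tensor_congr ⟨Iso.refl M⟩ ⟨e⟩).some) 0,
      finrank_h0_twist_curve k hdim hreg hE (isInvertible_tensorMod hM hI) ?_,
      finrank_h0_twist_curve_pow hE hEE hM j (by push_cast at hj; omega)]
    rw [pair_comm k, pair_tensor k hdim.le hM hI (hE.isInvertible k hdim hreg),
      Groth.AffineDiv.pair_idealMod_pow k hdim.le hEc (hE.isInvertible k hdim hreg), hEE, pair_comm k]
    push_cast at hj
    omega

end Groth.SurfRR
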