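import Groth.Agent.SurfRR.NegCurve
import Groth.Agent.Variety2.Growth.Homog
import Groth.Agent.Variety2.Growth.Lipschitz
import Groth.Agent.Inter.KleimanCor
import Groth.Agent.Inter.Growth3

/-!
# Asymptotic cohomology on surfaces
-/

set_option autoImplicit false
set_option linter.style.haveILetI false

universe u

open CategoryTheory CategoryTheory.Limits AlgebraicGeometry TopologicalSpace Filter Topology

noncomputable section

namespace Groth.SurfRR.Asymptotic

open Groth.Inter Groth.PicAux Groth.SurfNum Groth.HilbStab Groth.PropsBasic.Ample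

variable (k : Type u) [Field k] {X : Scheme.{u}} [X.Over (Spec (CommRingCat.of k))]

/-- `2 h^q(L^m) / m²`. -/
def hSeq (q : ℕ) (L : X.Modules) (m : ℕ) : ℝ :=
  (Module.finrank k (Coh.HH X (CohB1.tensorPow L m) q) : ℝ) * 2 / (m : ℝ) ^ 2

theorem hSeq_nonneg (q : ℕ) (L : X.Modules) (m : ℕ) : 0 ≤ hSeq k q L m := by
  unfold hSeq; positivity

theorem hhat_eq (q : ℕ) (L : X.Modules) :
    W4c5asymptcohfn.hhat k X 2 q L = limsup (hSeq k q L) atTop := by
  unfold W4c5asymptcohfn.hhat
  refine congrArg (fun u => limsup u atTop) (funext fun m => ?_)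
  simp [hSeq]

theorem hSeq_eq_cohSeq (q : ℕ) (L : X.Modules) (m : ℕ) :
    hSeq k q L m = W4c5asymptcohfn.cohSeq k X 2 q (Coh.structureModule X) L m := by
  unfold hSeq W4c5asymptcohfn.cohSeq
  rw [(EulerDeg.hEquiv k (tensor_one (CohB1.tensorPow L m)).some q).finrank_eq]
  simp

variable [IsProper (X ↘ Spec (CommRingCat.of k))]

section

variable [IsIntegral X] {A : X.Modules} (hA : CohB1.IsAmple A) (hdim : topologicalKrullDim X = 2)

include hdim in
omit [IsIntegral X] in
theorem tendsto_euler (hA : CohB1.IsAmple A) {L : X.Modules} (hL : PicF.IsInvertible L) :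
    Tendsto (fun m : ℕ => (Curv2.euler k X (CohB1.tensorPow L m) : ℝ) * 2 / (m : ℝ) ^ 2) atTop
      (𝓝 (pair k L L : ℝ)) := by
  set c : ℝ := ((Curv2.euler k X (Coh.structureModule X) : ℤ) : ℝ)
  set d : ℝ := ((delta k [L] (Coh.structureModule X) : ℤ) : ℝ)
  set P : ℝ := ((pair k L L : ℤ) : ℝ) with hPdef
  have h : Tendsto (fun m : ℕ => P + (-2 * d - P) * (m : ℝ)⁻¹ + 2 * c * ((m : ℝ)⁻¹ * (m : ℝ)⁻¹)) atTop
      (𝓝 (P + (-2 * d - P) * 0 + 2 * c * (0 * 0))) := by
    have h0 := tendsto_inv_atTop_nhds_zero_nat (𝕜 := ℝ)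
    exact ((h0.const_mul _).const_add P).add ((h0.mul h0).const_mul _)
  rw [mul_zero, mul_zero, mul_zero, add_zero, add_zero] at h
  refine h.congr' ?_
  filter_upwards [eventually_gt_atTop 0] with m hm
  have he := euler_pow_pow k hdim.le hL hA.1 m 0
  rw [EulerDeg.euler_congr k ((tensor_comm _ _).some ≪≫ (tensor_one _).some :
    CohB1.tensorMod (CohB1.tensorPow L m) (CohB1.tensorPow A 0) ≅ CohB1.tensorPow L m)] at he
  simp only [Nat.choose_zero_succ, Nat.cast_zero, zero_mul, mul_zero, sub_zero, add_zero] at he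
  have hm' : (m : ℝ) ≠ 0 := by positivity
  rw [he]
  push_cast
  rw [Nat.cast_choose_two]
  simp only [c, d, hPdef]
  field_simp
  ring

include hA hdim in
theorem eventually_hSeq_le {L : X.Modules} (hL : PicF.IsInvertible L) (q : ℕ) :
    ∃ B : ℝ, ∀ᶠ m in atTop, hSeq k q L m ≤ B := by
  obtain ⟨B, hB⟩ := Variety2.Growth.eventually_cohSeq_le (k := k) hA hL (n := 2) (by simpa using hdim)
    (isCoh_of_isInvertible (EulerDeg.isInvertible_structureModule X)) q
  exact ⟨B, hB.mono fun m hm => by rwa [hSeq_eq_cohSeq]⟩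

include hA hdim in
theorem hhat_tensorPow {L : X.Modules} (hL : PicF.IsInvertible L) (a : ℕ) (ha : 1 ≤ a) (q : ℕ) :
    limsup (hSeq k q (CohB1.tensorPow L a)) atTop = (a : ℝ) ^ 2 * limsup (hSeq k q L) atTop := by
  rw [← hhat_eq, ← hhat_eq]
  exact Variety2.Growth.hhat_tensorPow (k := k) hA hL (by simpa using hdim) a ha q

include hA hdim in
theorem tendsto_h0_ample : Tendsto (hSeq k 0 A) atTop (𝓝 (pair k A A : ℝ)) := by
  haveI : IsNoetherian X := Groth.Inter.isNoetherian k
  refine (tendsto_euler k hdim hA hA.1).congr' ?_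
  obtain ⟨d₀, hd⟩ := PnCoh.exists_subsingleton_of_isAmple (X ↘ Spec (CommRingCat.of k)) hA
    (Coh.structureModule X) QCohMod.isCoh_unit
  filter_upwards [eventually_ge_atTop d₀] with m hm
  haveI := hd m hm 1 Nat.one_pos
  haveI := hd m hm 2 (by norm_num)
  have e := (tensor_one (CohB1.tensorPow A m)).some
  haveI : Subsingleton (Coh.HH X (CohB1.tensorPow A m) 1) :=
    (EulerDeg.hEquiv k e.symm 1).toEquiv.subsingleton
  haveI : Subsingleton (Coh.HH X (CohB1.tensorPow A m) 2) :=
    (EulerDeg.hEquiv k e.symm 2).toEquiv.subsingleton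
  rw [euler_eq_three k hdim.le, Module.finrank_zero_of_subsingleton (R := k)
    (M := Coh.HH X (CohB1.tensorPow A m) 1), Module.finrank_zero_of_subsingleton (R := k)
    (M := Coh.HH X (CohB1.tensorPow A m) 2)]
  simp [hSeq]

include k in
/-- Tensoring with a module having a nonzero section does not decrease sections. -/
theorem finrank_h0_le_tensor {G P : X.Modules} (hG : PicF.IsInvertible G) (hP : PicF.IsInvertible P)
    (s : Γ(P, (⊤ : X.Opens))) (hs : s ≠ 0) :
    Module.finrank k (Coh.HH X G 0) ≤ Module.finrank k (Coh.HH X (CohB1.tensorMod G P) 0) := by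
  haveI : IsNoetherian X := Groth.Inter.isNoetherian k
  haveI : Mono (mulSec s G) := mono_mulSec_of_ne_zero hP hs hG
  exact finrank_h0_le_of_mono k (mulSec s G) (isCoh_of_isInvertible (isInvertible_tensorMod hG hP))

include hA hdim in
set_option maxHeartbeats 1000000 in
/-- A nef module has `ĥ⁰ ≤` its square. -/
theorem limsup_h0_nef_le {L M : X.Modules} (hL : PicF.IsInvertible L) (hLM : ClSub.IsInverseOf L M)
    (hnef : Nonneg k [M]) : limsup (hSeq k 0 L) atTop ≤ (pair k L L : ℝ) := by
  haveI : IsNoetherian X := Groth.Inter.isNoetherian k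
  have key : ∀ q : ℕ, 1 ≤ q → limsup (hSeq k 0 L) atTop ≤
      (pair k L L : ℝ) + 2 * (pair k L A : ℝ) * (q : ℝ)⁻¹ + (pair k A A : ℝ) * ((q : ℝ)⁻¹ * (q : ℝ)⁻¹) := by
    intro q hq
    have hQ := isInvertible_tensorPow hL q
    obtain ⟨B, hBdef⟩ : ∃ B : X.Modules, B = CohB1.tensorMod (CohB1.tensorPow L q) A := ⟨_, rfl⟩
    have hB : CohB1.IsAmple B := hBdef ▸ isAmple_nef_tensor_ample k hA hL hLM hnef q
    have hBB := tendsto_h0_ample k hB hdim
    obtain ⟨p, hp⟩ := exists_section_twist k hA (EulerDeg.isInvertible_structureModule X)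
    have hle : ∀ᶠ m in atTop, hSeq k 0 (CohB1.tensorPow L q) m ≤ hSeq k 0 B m := by
      filter_upwards [eventually_ge_atTop p] with m hm
      obtain ⟨t, ht⟩ := hp m hm
      have h1 := finrank_h0_le_tensor k (isInvertible_tensorPow hQ m)
        (isInvertible_tensorMod (EulerDeg.isInvertible_structureModule X)
          (isInvertible_tensorPow hA.1 m)) t ht
      rw [EulerDeg.finrank_congr (k := k)
        ((tensor_congr ⟨Iso.refl (CohB1.tensorPow (CohB1.tensorPow L q) m)⟩
          ⟨(tensor_one (CohB1.tensorPow A m)).some⟩).some ≪≫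
          (tensorPow_tensorMod' (CohB1.tensorPow L q) A m).some.symm) 0, ← hBdef] at h1
      unfold hSeq
      gcongr
    have h1 : limsup (hSeq k 0 (CohB1.tensorPow L q)) atTop ≤ (pair k B B : ℝ) := by
      rw [← hBB.limsup_eq]
      exact limsup_le_limsup hle
        (IsBoundedUnder.isCoboundedUnder_le ⟨0, eventually_map.2 (Eventually.of_forall (hSeq_nonneg k 0 _))⟩)
        hBB.isBoundedUnder_le
    rw [hhat_tensorPow k hA hdim hL q hq 0] at h1
    have hBBv : pair k B B = (q : ℤ) ^ 2 * pair k L L + 2 * q * pair k L A + pair k A A := by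
      rw [hBdef, pair_tensor k hdim.le hQ hA.1 (isInvertible_tensorMod hQ hA.1),
        pair_comm k (CohB1.tensorPow L q), pair_comm k A (CohB1.tensorMod _ A),
        pair_tensor k hdim.le hQ hA.1 hQ, pair_tensor k hdim.le hQ hA.1 hA.1,
        pair_pow k hdim.le hL hQ, pair_pow k hdim.le hL hA.1, pair_comm k A (CohB1.tensorPow L q),
        pair_comm k L (CohB1.tensorPow L q), pair_pow k hdim.le hL hL, pair_pow k hdim.le hL hA.1]
      ring
    rw [hBBv] at h1
    push_cast at h1
    have hq' : (0 : ℝ) < (q : ℝ) := by exact_mod_cast hq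
    refine le_of_mul_le_mul_left (h1.trans_eq ?_) (pow_pos hq' 2)
    field_simp
  have h0 := tendsto_inv_atTop_nhds_zero_nat (𝕜 := ℝ)
  have hlim : Tendsto (fun q : ℕ => (pair k L L : ℝ) + 2 * (pair k L A : ℝ) * (q : ℝ)⁻¹ +
      (pair k A A : ℝ) * ((q : ℝ)⁻¹ * (q : ℝ)⁻¹)) atTop
      (𝓝 ((pair k L L : ℝ) + 2 * (pair k L A : ℝ) * 0 + (pair k A A : ℝ) * (0 * 0))) :=
    ((h0.const_mul _).const_add _).add ((h0.mul h0).const_mul _)
  rw [mul_zero, mul_zero, mul_zero, add_zero, add_zero] at hlim
  refine ge_of_tendsto hlim ?_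
  filter_upwards [eventually_ge_atTop 1] with q hq using key q hq

include hA hdim in
/-- Modules of nonpositive degree have few sections in all powers. -/
theorem finrank_h0_pow_le {L : X.Modules} (hL : PicF.IsInvertible L) (h : pair k L A ≤ 0) (m : ℕ) :
    Module.finrank k (Coh.HH X (CohB1.tensorPow L m) 0) ≤
      Module.finrank k (Coh.HH X (Coh.structureModule X) 0) := by
  by_cases hne : Nontrivial (Coh.HH X (CohB1.tensorPow L m) 0)
  · have hLm := isInvertible_tensorPow hL m
    have hnn := pair_nonneg_of_nontrivial k hdim hA hLm hne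
    have hz : pair k (CohB1.tensorPow L m) A = 0 := by
      rw [pair_pow k hdim.le hL hA.1] at hnn ⊢
      have hm0 : (0 : ℤ) ≤ (m : ℤ) := by positivity
      nlinarith [mul_nonpos_of_nonneg_of_nonpos hm0 h]
    obtain ⟨e⟩ := iso_structure_of_pair_eq_zero k hdim hLm hne hA hz
    exact (EulerDeg.finrank_congr (k := k) e 0).le
  · rw [finrank_h0_eq_zero k hne]
    exact Nat.zero_le _

include hA hdim in
/-- The second cohomology of powers of a module of nonnegative degree grows slowly. -/
theorem tendsto_h2 {W : X.Modules} (hW : PicF.IsInvertible W) (hD : DualDim k W) {L : X.Modules}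
    (hL : PicF.IsInvertible L) (h : 0 ≤ pair k L A) : Tendsto (hSeq k 2 L) atTop (𝓝 0) := by
  haveI : IsNoetherian X := Groth.Inter.isNoetherian k
  obtain ⟨L', -, hLL'⟩ := exists_isInverseOf hL
  have hL' := isInvertible_of_isInverseOf hL hLL'
  have hn : topologicalKrullDim X = ((2 : ℕ) : WithBot ℕ∞) := by simpa using hdim
  have heq : hSeq k 2 L = W4c5asymptcohfn.cohSeq k X 2 0 W L' := funext fun m => by
    have e := hD (CohB1.tensorPow L m) (CohB1.tensorPow L' m) (isInvertible_tensorPow hL m)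
      (isInverseOf_tensorPow hLL' m) 0 (Nat.zero_le _)
    unfold hSeq W4c5asymptcohfn.cohSeq
    rw [e]
    simp
  have hzero : Tendsto (hSeq k 0 L') atTop (𝓝 0) := by
    set N : ℝ := (Module.finrank k (Coh.HH X (Coh.structureModule X) 0) : ℝ)
    have h0 := tendsto_inv_atTop_nhds_zero_nat (𝕜 := ℝ)
    have hlim := (h0.mul h0).const_mul (2 * N)
    rw [mul_zero, mul_zero] at hlim
    refine squeeze_zero (hSeq_nonneg k 0 L') (fun m => ?_) hlim
    have h1 : (Module.finrank k (Coh.HH X (CohB1.tensorPow L' m) 0) : ℝ) ≤ N := by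
      simp only [N]
      exact_mod_cast finrank_h0_pow_le k hA hdim hL'
        (by rw [pair_inverse k hdim.le hL hLL' hA.1]; linarith) m
    unfold hSeq
    rw [div_eq_mul_inv, show 2 * N * ((m : ℝ)⁻¹ * (m : ℝ)⁻¹) = N * 2 * ((m : ℝ) ^ 2)⁻¹ by
      rw [← inv_pow]; ring]
    gcongr
  have hls : W4c5asymptcohfn.hhatF k X 2 0 W L' = 0 := by
    rw [Variety2.Growth.hhatF_eq_of_close (k := k) hA hL' hn
      (isCoh_of_isInvertible (EulerDeg.isInvertible_structureModule X))
      (Variety2.Growth.close_invertible (k := k) hA hL' hn hW) 0,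
      Variety2.Growth.hhatF_structureModule, hhat_eq]
    exact hzero.limsup_eq
  obtain ⟨B, hB⟩ := eventually_hSeq_le k hA hdim hL 2
  rw [tendsto_order]
  refine ⟨fun a ha => Eventually.of_forall fun m => ha.trans_le (hSeq_nonneg k 2 L m), fun a ha => ?_⟩
  have hlt : limsup (hSeq k 2 L) atTop < a := by rw [heq]; exact hls.trans_lt ha
  exact eventually_lt_of_limsup_lt hlt ⟨B, eventually_map.2 hB⟩

include hA hdim in
/-- `h⁰(L^m) = (L²)/2 m² + o(m²)` for nef `L`. -/
theorem tendsto_h0_nef {W : X.Modules} (hW : PicF.IsInvertible W) (hD : DualDim k W)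
    {L M : X.Modules} (hL : PicF.IsInvertible L) (hLM : ClSub.IsInverseOf L M)
    (hnef : Nonneg k [M]) : Tendsto (hSeq k 0 L) atTop (𝓝 (pair k L L : ℝ)) := by
  haveI : IsNoetherian X := Groth.Inter.isNoetherian k
  have hdeg : 0 ≤ pair k L A := by
    obtain ⟨A', -, hAA'⟩ := exists_isInverseOf hA.1
    rw [← pair_inverse_inverse k hdim.le hL hLM hA.1 hAA']
    exact nonneg_mixed k hA hAA' hL hLM hnef 1 1 _ QCohMod.isCoh_unit (by
      simpa using dim_support_le hdim.le (Coh.structureModule X))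
  have h2 := tendsto_h2 k hA hdim hW hD hL hdeg
  have hχ := tendsto_euler k hdim hA hL
  obtain ⟨B, hB⟩ := eventually_hSeq_le k hA hdim hL 0
  rw [tendsto_order]
  refine ⟨fun a ha => ?_, fun a ha => eventually_lt_of_limsup_lt
    ((limsup_h0_nef_le k hA hdim hL hLM hnef).trans_lt ha) ⟨B, eventually_map.2 hB⟩⟩
  have h : Tendsto (fun m : ℕ => (Curv2.euler k X (CohB1.tensorPow L m) : ℝ) * 2 / (m : ℝ) ^ 2 -
      hSeq k 2 L m) atTop (𝓝 ((pair k L L : ℝ) - 0)) := hχ.sub h2
  rw [sub_zero] at h
  filter_upwards [h.eventually (eventually_gt_nhds ha)] with m hm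
  refine hm.trans_le ?_
  rw [euler_eq_three k hdim.le]
  push_cast
  have h1 : (0 : ℝ) ≤ hSeq k 1 L m := hSeq_nonneg k 1 L m
  unfold hSeq at h1 ⊢
  simp only [sub_mul, add_mul, sub_div, add_div]
  linarith

include hdim in
theorem pair_multiTwist {B : X.Modules} (hB : PicF.IsInvertible B) :
    ∀ (r : ℕ) (G : Fin r → X.Modules), (∀ i, PicF.IsInvertible (G i)) → ∀ a : Fin r → ℕ,
      pair k (FGA.multiTwist G a) B = ∑ i, (a i : ℤ) * pair k (G i) B
  | 0, G, _, a => by
    rw [Fin.sum_univ_zero]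
    exact pair_one k
  | r + 1, G, hG, a => by
    rw [multiTwist_succ, pair_tensor k hdim.le (isInvertible_tensorPow (hG 0) _)
      (isInvertible_multiTwist (fun i => hG i.succ) _) hB, pair_pow k hdim.le (hG 0) hB,
      pair_multiTwist hB r _ (fun i => hG i.succ) _, Fin.sum_univ_succ]

end

section Zariski

variable [IsIntegral X] [IsAlgClosed k] (hdim : topologicalKrullDim X = 2)
  (hreg : ∀ x : X, IsRegularLocalRing (X.presheaf.stalk x)) {s : ℕ} {N : Fin s → X.IdealSheafData}
  (hN : ∀ j, IsCurve (N j)) {O : Fin s → X.Modules} (hO : ∀ j, ClSub.IsInverseOf (ClSub.idealMod (N j)) (O j))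
  (hneg : (-(Matrix.of fun j l : Fin s =>
    pair k (ClSub.idealMod (N j)) (ClSub.idealMod (N l)))).PosDef)

include hneg in
omit [IsIntegral X] [IsAlgClosed k] [IsProper (X ↘ Spec (CommRingCat.of k))] in
theorem exists_neg_row {c : Fin s → ℕ} (hc : c ≠ 0) :
    ∃ l, 0 < c l ∧ ∑ j, (c j : ℤ) * pair k (ClSub.idealMod (N l)) (ClSub.idealMod (N j)) < 0 := by
  by_contra hne
  push Not at hne
  have hv : (fun j => (c j : ℤ)) ≠ 0 := fun h => hc (funext fun j => by simpa using congrFun h j)
  have hd := hneg.dotProduct_mulVec_pos hv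
  have hs : (0 : ℤ) ≤ ∑ l, (c l : ℤ) * ∑ j, (c j : ℤ) * pair k (ClSub.idealMod (N l)) (ClSub.idealMod (N j)) :=
    Finset.sum_nonneg fun l _ => by
      rcases Nat.eq_zero_or_pos (c l) with h | h
      · simp [h]
      · exact mul_nonneg (Nat.cast_nonneg _) (hne l h)
  simp only [dotProduct, Matrix.mulVec, Matrix.neg_apply, Matrix.of_apply, star_trivial,
    neg_mul, Finset.sum_neg_distrib, mul_neg] at hd
  simp only [mul_comm (pair k _ _) ((c _ : ℤ))] at hd
  omega

include hdim hreg hN hO hneg in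
/-- Sections are unchanged by adding a combination of negative definite curves orthogonal to the module. -/
theorem finrank_h0_tensor_multiTwist : ∀ (n : ℕ) (c : Fin s → ℕ), ∑ j, c j = n → ∀ M : X.Modules,
    PicF.IsInvertible M → (∀ j, pair k (ClSub.idealMod (N j)) M = 0) →
      Module.finrank k (Coh.HH X (CohB1.tensorMod M (FGA.multiTwist O c)) 0) =
        Module.finrank k (Coh.HH X M 0) := by
  have hI := fun j => (hN j).isInvertible k hdim hreg
  have hOi := fun j => isInvertible_of_isInverseOf (hI j) (hO j)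
  intro n
  induction n with
  | zero =>
    intro c hc M hM hMN
    have hz : c = 0 := funext fun j => (Finset.sum_eq_zero_iff.1 hc) j (Finset.mem_univ j)
    subst hz
    obtain ⟨e⟩ := Variety2.Growth.nonempty_tensorPow_multiTwist s O 0 0
    rw [zero_nsmul] at e
    refine EulerDeg.finrank_congr (k := k) ?_ 0
    exact (tensor_congr ⟨Iso.refl M⟩ ⟨e.symm⟩).some ≪≫ (tensor_comm _ _).some ≪≫ (tensor_one M).some
  | succ n ih =>
    intro c hc M hM hMN
    have hne : c ≠ 0 := fun h => by simp [h] at hc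
    obtain ⟨l, hl, hneg'⟩ := exists_neg_row k hneg hne
    set c' : Fin s → ℕ := c - Pi.single l 1
    have hcc : c = c' + Pi.single l 1 := funext fun j => by
      simp only [c', Pi.add_apply, Pi.sub_apply]
      by_cases h : j = l
      · subst h; simp; omega
      · simp [Pi.single_eq_of_ne h]
    have hc' : ∑ j, c' j = n := by
      rw [hcc] at hc
      simp only [Pi.add_apply, Finset.sum_add_distrib, Finset.sum_pi_single', Finset.mem_univ, if_true] at hc
      omega
    set Q := CohB1.tensorMod M (FGA.multiTwist O c)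
    have hT := isInvertible_multiTwist hOi c
    have hQ : PicF.IsInvertible Q := isInvertible_tensorMod hM hT
    have hpos : 0 < pair k (ClSub.idealMod (N l)) Q := by
      rw [pair_comm k, pair_tensor k hdim.le hM hT (hI l), pair_comm k M, hMN l, zero_add,
        pair_multiTwist k hdim (hI l) s O hOi c]
      have e : ∀ j, (c j : ℤ) * pair k (O j) (ClSub.idealMod (N l)) =
          -((c j : ℤ) * pair k (ClSub.idealMod (N l)) (ClSub.idealMod (N j))) := fun j => by
        rw [pair_inverse k hdim.le (hI j) (hO j) (hI l), pair_comm k (ClSub.idealMod (N j))]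
        ring
      simp only [e, Finset.sum_neg_distrib]
      omega
    rw [← finrank_h0_twist_curve k hdim hreg (hN l) hQ hpos, ← ih c' hc' M hM hMN]
    obtain ⟨e⟩ := Variety2.Growth.nonempty_multiTwist_single s O c' l
    rw [← hcc] at e
    refine EulerDeg.finrank_congr (k := k) ?_ 0
    exact (tensor_assoc M _ _).some ≪≫ (tensor_congr ⟨Iso.refl M⟩
      ⟨(tensor_congr ⟨e⟩ ⟨Iso.refl _⟩).some ≪≫ (tensor_assoc _ _ _).some ≪≫
        (tensor_congr ⟨Iso.refl _⟩ ⟨(tensor_comm _ _).some ≪≫ (hO l).some⟩).some ≪≫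
        (tensor_comm _ _).some ≪≫ (tensor_one _).some⟩).some

include hdim hreg hN hO hneg in
/-- Asymptotic cohomology of a Zariski decomposition. -/
theorem hhat_of_decomposition {A : X.Modules} (hA : CohB1.IsAmple A) {W : X.Modules}
    (hW : PicF.IsInvertible W) (hD : DualDim k W) {P M : X.Modules} (hP : PicF.IsInvertible P)
    (hPM : ClSub.IsInverseOf P M) (hnef : Nonneg k [M])
    (horth : ∀ j, pair k (ClSub.idealMod (N j)) P = 0) (b : Fin s → ℕ) :
    limsup (hSeq k 0 (CohB1.tensorMod P (FGA.multiTwist O b))) atTop = (pair k P P : ℝ) ∧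
      limsup (hSeq k 1 (CohB1.tensorMod P (FGA.multiTwist O b))) atTop =
        -(pair k (FGA.multiTwist O b) (FGA.multiTwist O b) : ℝ) ∧
      limsup (hSeq k 2 (CohB1.tensorMod P (FGA.multiTwist O b))) atTop = 0 := by
  haveI : IsNoetherian X := Groth.Inter.isNoetherian k
  have hI := fun j => (hN j).isInvertible k hdim hreg
  have hOi := fun j => isInvertible_of_isInverseOf (hI j) (hO j)
  set T := FGA.multiTwist O b with hTdef
  have hT : PicF.IsInvertible T := isInvertible_multiTwist hOi b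
  set L := CohB1.tensorMod P T with hLdef
  have hL : PicF.IsInvertible L := isInvertible_tensorMod hP hT
  have hPT : pair k T P = 0 := by
    rw [hTdef, pair_multiTwist k hdim hP s O hOi b]
    refine Finset.sum_eq_zero fun j _ => ?_
    rw [pair_inverse k hdim.le (hI j) (hO j) hP, horth j, neg_zero, mul_zero]
  have hLL : pair k L L = pair k P P + pair k T T := by
    rw [hLdef, pair_tensor k hdim.le hP hT hL, pair_comm k P, pair_comm k T L, hLdef,
      pair_tensor k hdim.le hP hT hP, pair_tensor k hdim.le hP hT hT, hPT, pair_comm k P T, hPT]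
    ring
  have hdeg : 0 ≤ pair k L A := by
    rw [hLdef, pair_tensor k hdim.le hP hT hA.1, hTdef, pair_multiTwist k hdim hA.1 s O hOi b]
    refine add_nonneg ?_ (Finset.sum_nonneg fun j _ => mul_nonneg (Nat.cast_nonneg _) ?_)
    · obtain ⟨A', -, hAA'⟩ := exists_isInverseOf hA.1
      rw [← pair_inverse_inverse k hdim.le hP hPM hA.1 hAA']
      exact nonneg_mixed k hA hAA' hP hPM hnef 1 1 _ QCohMod.isCoh_unit (by
        simpa using dim_support_le hdim.le (Coh.structureModule X))
    · rw [pair_inverse k hdim.le (hI j) (hO j) hA.1]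
      linarith [(hN j).pair_neg k hdim hreg hA]
  have h2 := tendsto_h2 k hA hdim hW hD hL hdeg
  have h0 : Tendsto (hSeq k 0 L) atTop (𝓝 (pair k P P : ℝ)) := by
    refine (tendsto_h0_nef k hA hdim hW hD hP hPM hnef).congr fun m => ?_
    have e : CohB1.tensorPow L m ≅ CohB1.tensorMod (CohB1.tensorPow P m) (FGA.multiTwist O (m • b)) :=
      (tensorPow_tensorMod' P T m).some ≪≫
        (tensor_congr ⟨Iso.refl _⟩ (Variety2.Growth.nonempty_tensorPow_multiTwist s O b m)).some
    unfold hSeq
    rw [EulerDeg.finrank_congr (k := k) e 0, finrank_h0_tensor_multiTwist k hdim hreg hN hO hneg _ _ rfl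
      _ (isInvertible_tensorPow hP m) (fun j => by
        rw [pair_comm k, pair_pow k hdim.le hP (hI j), pair_comm k P, horth j, mul_zero])]
  have h1 : Tendsto (hSeq k 1 L) atTop (𝓝 (-(pair k T T : ℝ))) := by
    have h := (h0.add h2).sub (tendsto_euler k hdim hA hL)
    rw [hLL] at h
    push_cast at h
    rw [add_zero, sub_add_cancel_left] at h
    refine h.congr fun m => ?_
    rw [euler_eq_three k hdim.le]
    unfold hSeq
    push_cast
    ring
  exact ⟨h0.limsup_eq, h1.limsup_eq, h2.limsup_eq⟩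

end Zariski

end Groth.SurfRR.Asymptotic
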