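import Groth.Agent.SurfRR.Numerics
import Groth.Agent.AffineDiv.NumConnected
import Groth.Agent.RefRank.EffCartierDecomp

/-!
# Divisors with ample class
-/

set_option autoImplicit false
set_option linter.style.haveILetI false

universe u

open CategoryTheory CategoryTheory.Limits AlgebraicGeometry TopologicalSpace

namespace Groth.SurfRR

open Groth.Inter Groth.PicAux Groth.SurfNum

variable (k : Type u) [Field k] {X : Scheme.{u}} [X.Over (Spec (CommRingCat.of k))]
  [IsProper (X ↘ Spec (CommRingCat.of k))] [IsIntegral X]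
  (hdim : topologicalKrullDim X = 2) (hreg : ∀ x : X, IsRegularLocalRing (X.presheaf.stalk x))

include k hdim hreg

/-- An effective divisor is a product of powers of curves. -/
theorem exists_curves_prod {Z : X.IdealSheafData} (hD : BlowUp.IsEffCartierIdeal Z) (hZ0 : Z ≠ ⊤) :
    ∃ (n : ℕ) (C : Fin n → X.IdealSheafData) (a : Fin n → ℕ), (∀ i, IsCurve (C i)) ∧
      (∀ i, BlowUp.IsEffCartierIdeal (C i)) ∧ Z = ∏ i, C i ^ a i ∧ a ≠ 0 ∧
      ∀ b : Fin n → ℕ, b ≠ 0 → (∏ i, C i ^ b i) ≠ ⊤ := by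
  classical
  haveI : IsNoetherian X := Groth.Inter.isNoetherian k
  have hfin := finite_dim_closure_eq (n := 1) Z.support.isClosed
    (dim_support_le_one k hdim hD)
  let ξ : Fin hfin.toFinset.card → X := fun i => (hfin.toFinset.equivFin.symm i).1
  have hξ : ∀ i, ξ i ∈ Z.support ∧ topologicalKrullDim (closure ({ξ i} : Set X)) = ((1 : ℕ) : WithBot ℕ∞) :=
    fun i => hfin.mem_toFinset.1 (hfin.toFinset.equivFin.symm i).2
  let C : Fin hfin.toFinset.card → X.IdealSheafData := fun i => IntMult.ptIdeal (ξ i)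
  have hc : ∀ i, IsCurve (C i) := fun i =>
    ⟨Groth.CohTwo.isIntegral_closure_subscheme rfl, by
      rw [support_ptIdeal]; exact (hξ i).2.trans (by simp)⟩
  have hCe : ∀ i, BlowUp.IsEffCartierIdeal (C i) := fun i => (hc i).isEffCartier k hdim hreg
  have hsub : (Z.support : Set X) ⊆ ⋃ i, ((C i).support : Set X) := fun z hz => by
    obtain ⟨y, hy, hyz, hmax⟩ := Groth.DivisorLength.exists_maximal_generization Z.support.isClosed hz
    have hyd : topologicalKrullDim (closure ({y} : Set X)) = ((1 : ℕ) : WithBot ℕ∞) := by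
      have h1 := Groth.Divisors.dim_stalk_eq_one_of_maximal_support hD hy hmax
      have h2 := Groth.Variety2.Dim.ringKrullDim_stalk_add_height (X ↘ Spec (CommRingCat.of k)) y
      rw [h1, hdim] at h2
      rw [Groth.Variety2.Dim.dim_closure_singleton]
      exact congrArg WithBot.some (eq_one_of_add (a := 1) (WithBot.coe_inj.1 h2) rfl)
    refine Set.mem_iUnion.2 ⟨hfin.toFinset.equivFin ⟨y, hfin.mem_toFinset.2 ⟨hy, hyd⟩⟩, ?_⟩
    simp only [C, ξ, Equiv.symm_apply_apply, support_ptIdeal]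
    exact hyz.mem_closure
  have hZC : ∀ i, Z ≤ C i := fun i => by
    haveI := (hc i).1
    exact Groth.RefRank.EffCartierLocal.le_of_isReduced_subscheme (D := Z) (E := C i) (by
      rw [support_ptIdeal]
      exact Z.support.isClosed.closure_subset_iff.2 (Set.singleton_subset_iff.2 (hξ i).1))
  obtain ⟨a, hZa⟩ := Groth.RefRank.EffCartierLocal.exists_eq_prod Z hD C hCe (fun i => (hc i).1) hsub
  have ha : a ≠ 0 := fun e => hZ0 (by
    rw [hZa, e]
    simp only [Pi.zero_apply, pow_zero, Finset.prod_const_one]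
    exact Scheme.IdealSheafData.one_eq_top)
  have hne : ∀ b : Fin hfin.toFinset.card → ℕ, b ≠ 0 → (∏ i, C i ^ b i) ≠ ⊤ := fun b hb e => by
    obtain ⟨i, hi⟩ := Function.ne_iff.1 hb
    rw [Groth.AffineDiv.prodPow_sub_mul C b (Nat.pos_of_ne_zero hi)] at e
    have hmem : ξ i ∈ ((∏ j, C j ^ (b - Pi.single i 1 : _ → ℕ) j) * C i).support := by
      rw [Scheme.IdealSheafData.support_mul]
      refine Or.inr ?_
      change ξ i ∈ ((C i).support : Set X)
      rw [support_ptIdeal]; exact subset_closure rfl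
    rw [e, Scheme.IdealSheafData.support_top] at hmem
    exact hmem
  exact ⟨_, C, a, hc, hCe, hZa, ha, hne⟩

/-- A divisor with ample class is numerically connected, and so is each of its multiples. -/
theorem pair_pos_of_add_eq {ι : Type} [Fintype ι] (C : ι → X.IdealSheafData)
    (hC : ∀ i, BlowUp.IsEffCartierIdeal (C i))
    (hne : ∀ b : ι → ℕ, b ≠ 0 → (∏ i, C i ^ b i) ≠ ⊤)
    {a : ι → ℕ} {A : X.Modules} (hA : CohB1.IsAmple A)
    (hAD : ClSub.IsInverseOf A (ClSub.idealMod (∏ i, C i ^ a i))) {n : ℕ} {b c : ι → ℕ}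
    (hb : b ≠ 0) (hc : c ≠ 0) (hbc : b + c = fun i => n * a i) :
    0 < pair k (ClSub.idealMod (∏ i, C i ^ b i)) (ClSub.idealMod (∏ i, C i ^ c i)) := by
  classical
  have hI := fun b : ι → ℕ => isInvertible_idealMod (Groth.AffineDiv.isEffCartier_prodPow C hC b)
  have hlin : ∀ M : X.Modules, PicF.IsInvertible M →
      pair k (ClSub.idealMod (∏ i, C i ^ c i)) M =
        (n : ℤ) * pair k (ClSub.idealMod (∏ i, C i ^ a i)) M - pair k (ClSub.idealMod (∏ i, C i ^ b i)) M := by
    intro M hM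
    simp only [Groth.AffineDiv.pair_prodPow k hdim C hC _ hM, Finset.mul_sum, ← Finset.sum_sub_distrib]
    refine Finset.sum_congr rfl fun i _ => ?_
    have : ((b i : ℤ) + c i) = (n : ℤ) * a i := by exact_mod_cast congrFun hbc i
    rw [← mul_assoc, ← this]
    ring
  have hAA := pair_self_pos k hdim hA
  have hxA := pair_neg_of_ne_top k hdim (Groth.AffineDiv.isEffCartier_prodPow C hC b) (hne b hb) hA
  have hyA := pair_neg_of_ne_top k hdim (Groth.AffineDiv.isEffCartier_prodPow C hC c) (hne c hc) hA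
  have e1 : pair k (ClSub.idealMod (∏ i, C i ^ a i)) A = - pair k A A := pair_inverse k hdim.le hA.1 hAD hA.1
  rw [hlin A hA.1, e1] at hyA
  have e2 : pair k (ClSub.idealMod (∏ i, C i ^ a i)) (ClSub.idealMod (∏ i, C i ^ b i)) =
      - pair k (ClSub.idealMod (∏ i, C i ^ b i)) A := by
    rw [pair_inverse k hdim.le hA.1 hAD (hI b), pair_comm k]
  have hodge := mul_le_sq k hdim hA (hI b)
  rw [pair_comm k, hlin _ (hI b), e2]
  nlinarith [sq_nonneg (pair k (ClSub.idealMod (∏ i, C i ^ b i)) A)]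

/-- A divisor with ample class has no sections in the twists by `L(-D)` for `L` of degree `≤ 0` on it. -/
theorem subsingleton_h0_restrict_ample [IsAlgClosed k] {D : X.IdealSheafData}
    (hD : BlowUp.IsEffCartierIdeal D) (hD0 : D ≠ ⊤) {A : X.Modules} (hA : CohB1.IsAmple A)
    (hAD : ClSub.IsInverseOf A (ClSub.idealMod D)) {L : X.Modules} (hL : PicF.IsInvertible L)
    (hLC : ∀ I : X.IdealSheafData, IsCurve I → 0 ≤ pair k (ClSub.idealMod I) L) :
    Subsingleton (Coh.HH X (CohB1.tensorMod (ClSub.quotMod D) (CohB1.tensorMod L (ClSub.idealMod D))) 0) := by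
  obtain ⟨n, C, a, hc, hCe, rfl, ha, hne⟩ := exists_curves_prod k hdim hreg hD hD0
  exact Groth.AffineDiv.subsingleton_h0_complement k hdim C hCe (fun i => (hc i).1) (fun i => (hc i).2.le)
    (a := fun i => 2 * a i) (fun b c hb hc' hbc => pair_pos_of_add_eq k hdim hreg C hCe hne hA hAD hb hc' hbc)
    hL (fun i _ => hLC _ (hc i)) a a (funext fun i => (two_mul (a i)).symm) ha

end Groth.SurfRR
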