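import Groth.Agent.SurfRR.Smooth
import Groth.Agent.Ega2Proj.RelAmpleCoprod
import Groth.Agent.NagComp.Goodman

/-!
# Smooth proper surfaces with several components are projective
-/

set_option autoImplicit false
set_option linter.style.haveILetI false
set_option backward.isDefEq.respectTransparency.types false

universe u

open CategoryTheory CategoryTheory.Limits AlgebraicGeometry TopologicalSpace

namespace Groth.SurfRR

variable (k : Type u) [Field k] {X : Scheme.{u}} [X.Over (Spec (CommRingCat.of k))]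

omit [X.Over (Spec (CommRingCat.of k))] in
theorem isRelAmple_of_isAmple (f : X ⟶ Spec (CommRingCat.of k)) [QuasiCompact f] {L : X.Modules}
    (hL : CohB1.IsAmple L) : RelAmple.IsRelAmple f L :=
  Groth.Ega2Proj.isRelAmple_of_local f fun _ => ⟨⊤, X, 𝟙 X, inferInstance, trivial,
    fun z _ => ⟨z, rfl⟩,
    Groth.Ega2Proj.isAmple_of_iso ((Scheme.Modules.restrictFunctorId (X := X)).app L).symm hL⟩

variable [IsProper (X ↘ Spec (CommRingCat.of k))] [Smooth (X ↘ Spec (CommRingCat.of k))]

theorem exists_isRelAmple_clopen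
    (hdim : ∀ Z ∈ irreducibleComponents (X : Type u), topologicalKrullDim Z = 2)
    (S : Closeds X) (hS : IsOpen (S : Set X)) (hne : (S : Set X).Nonempty) :
    ∃ L : (Scheme.Opens.toScheme (X := X) ⟨(S : Set X), hS⟩).Modules,
      RelAmple.IsRelAmple (Scheme.Opens.ι (X := X) ⟨(S : Set X), hS⟩ ≫ (X ↘ Spec (CommRingCat.of k))) L := by
  haveI : IsNoetherian X := Groth.Inter.isNoetherian k
  induction S using WellFoundedLT.induction with
  | _ S ih => ?_
  let W : X.Opens := ⟨(S : Set X), hS⟩
  have hr : Set.range W.ι = (S : Set X) := Scheme.Opens.range_ι W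
  haveI : IsClosedImmersion W.ι := IsClosedImmersion.of_isPreimmersion _ (by rw [hr]; exact S.isClosed)
  letI : W.toScheme.Over (Spec (CommRingCat.of k)) := ⟨W.ι ≫ (X ↘ Spec (CommRingCat.of k))⟩
  haveI : IsProper (W.toScheme ↘ Spec (CommRingCat.of k)) :=
    inferInstanceAs (IsProper (W.ι ≫ (X ↘ Spec (CommRingCat.of k))))
  haveI : Smooth (W.toScheme ↘ Spec (CommRingCat.of k)) :=
    inferInstanceAs (Smooth (W.ι ≫ (X ↘ Spec (CommRingCat.of k))))
  haveI : Nonempty W.toScheme := hne.to_subtype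
  by_cases hc : _root_.IsPreconnected (S : Set X)
  · haveI : ConnectedSpace W.toScheme :=
      Subtype.connectedSpace (s := (S : Set X)) ⟨hne, hc⟩
    haveI := isIntegral_of_smooth_connected k (X := W.toScheme)
    have hirr : IsIrreducible (S : Set X) := by
      rw [← hr, ← Set.image_univ]
      exact (IrreducibleSpace.isIrreducible_univ W.toScheme).image _ W.ι.continuous.continuousOn
    have hcomp : (S : Set X) ∈ irreducibleComponents (X : Type u) :=
      ⟨hirr, fun T hT hsub => IsPreconnected.subset_isClopen hT.isConnected.isPreconnected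
        ⟨S.isClosed, hS⟩ (hne.mono fun z hz => ⟨hsub hz, hz⟩)⟩
    have hd : topologicalKrullDim W.toScheme = 2 := hdim _ hcomp
    obtain ⟨U, hU, hx, -⟩ := exists_isAffineOpen_mem_and_subset
      (U := (⊤ : W.toScheme.Opens)) (x := genericPoint W.toScheme) trivial
    obtain ⟨I, hI, -, hamp⟩ := Groth.AffineDiv.exists_ample_divisor k hd
      (isRegularLocalRing_stalk k) hU ⟨_, hx⟩
    obtain ⟨L, hL, hIL⟩ := Groth.PicAux.exists_isInverseOf (Groth.PicAux.isInvertible_idealMod hI)
    have hL' := Groth.PicAux.isInvertible_of_isInverseOf (Groth.PicAux.isInvertible_idealMod hI) hIL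
    exact ⟨L, isRelAmple_of_isAmple k _ (hamp L hL' (Groth.PicAux.isInverseOf_symm hIL))⟩
  · rw [isPreconnected_closed_iff] at hc
    push Not at hc
    obtain ⟨A, B, hA, hB, hcov, hSA, hSB, hAB⟩ := hc
    let SA : Closeds X := ⟨(S : Set X) ∩ A, S.isClosed.inter hA⟩
    let SB : Closeds X := ⟨(S : Set X) ∩ B, S.isClosed.inter hB⟩
    have hdis : ∀ z, z ∈ (S : Set X) → z ∈ A → z ∈ B → False := fun z hz ha hb => by
      have : z ∈ (S : Set X) ∩ (A ∩ B) := ⟨hz, ha, hb⟩
      rw [hAB] at this
      exact this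
    have hoA : IsOpen (SA : Set X) := by
      have : (SA : Set X) = (S : Set X) ∩ Bᶜ := Set.ext fun z =>
        ⟨fun h => ⟨h.1, fun hb => hdis z h.1 h.2 hb⟩,
          fun h => ⟨h.1, (hcov h.1).resolve_right h.2⟩⟩
      rw [this]; exact hS.inter hB.isOpen_compl
    have hoB : IsOpen (SB : Set X) := by
      have : (SB : Set X) = (S : Set X) ∩ Aᶜ := Set.ext fun z =>
        ⟨fun h => ⟨h.1, fun ha => hdis z h.1 ha h.2⟩,
          fun h => ⟨h.1, (hcov h.1).resolve_left h.2⟩⟩
      rw [this]; exact hS.inter hA.isOpen_compl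
    have hlA : SA < S := lt_of_le_of_ne (fun z hz => hz.1) fun h => by
      obtain ⟨z, hz, hzB⟩ := hSB
      exact hdis z hz (show z ∈ (SA : Set X) by rw [h]; exact hz).2 hzB
    have hlB : SB < S := lt_of_le_of_ne (fun z hz => hz.1) fun h => by
      obtain ⟨z, hz, hzA⟩ := hSA
      exact hdis z hz hzA (show z ∈ (SB : Set X) by rw [h]; exact hz).2
    obtain ⟨LA, hLA⟩ := ih SA hlA hoA hSA
    obtain ⟨LB, hLB⟩ := ih SB hlB hoB hSB
    let a := X.homOfLE (show (⟨(SA : Set X), hoA⟩ : X.Opens) ≤ W from fun z hz => hz.1)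
    let b := X.homOfLE (show (⟨(SB : Set X), hoB⟩ : X.Opens) ≤ W from fun z hz => hz.1)
    have hra : Set.range a = {w : W.toScheme | w.1 ∈ (SA : Set X)} := Set.ext fun w => by
      constructor
      · rintro ⟨v, rfl⟩
        change (a v).1 ∈ (SA : Set X)
        rw [show (a v).1 = v.1 from Scheme.homOfLE_apply _ v]
        exact v.2
      · intro hw; exact ⟨⟨w.1, hw⟩, Subtype.ext (Scheme.homOfLE_apply _ _)⟩
    have hrb : Set.range b = {w : W.toScheme | w.1 ∈ (SB : Set X)} := Set.ext fun w => by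
      constructor
      · rintro ⟨v, rfl⟩
        change (b v).1 ∈ (SB : Set X)
        rw [show (b v).1 = v.1 from Scheme.homOfLE_apply _ v]
        exact v.2
      · intro hw; exact ⟨⟨w.1, hw⟩, Subtype.ext (Scheme.homOfLE_apply _ _)⟩
    have hab : IsCompl (Set.range a) (Set.range b) := by
      rw [hra, hrb]
      refine ⟨Set.disjoint_left.2 fun w h1 h2 => hdis w.1 h1.1 h1.2 h2.2,
        codisjoint_iff.2 (Set.eq_univ_of_forall fun w => ?_)⟩
      exact (hcov w.2).imp (fun h => ⟨w.2, h⟩) (fun h => ⟨w.2, h⟩)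
    obtain ⟨M, ⟨e⟩, ⟨e'⟩⟩ := Groth.Ega2Proj.exists_restrict_iso_of_clopen a b hab.disjoint LA LB
    refine ⟨M, Groth.Ega2Proj.isRelAmple_of_clopen_cover _ M a b hab ?_ ?_⟩
    · rw [← Category.assoc, Scheme.homOfLE_ι]
      exact Groth.Ega2Proj.isRelAmple_of_iso e.symm hLA
    · rw [← Category.assoc, Scheme.homOfLE_ι]
      exact Groth.Ega2Proj.isRelAmple_of_iso e'.symm hLB

/-- A smooth proper surface has a closed immersion into projective space. -/
theorem exists_embedding_of_smooth
    (hdim : ∀ Z ∈ irreducibleComponents (X : Type u), topologicalKrullDim Z = 2) [Nonempty X] :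
    ∃ (N : ℕ) (ι : X ⟶ CohB1.ProjSpace N k), IsClosedImmersion ι ∧
      ι ≫ CohB1.ProjSpace.toSpec N k = X ↘ Spec (CommRingCat.of k) := by
  obtain ⟨L, hL⟩ := exists_isRelAmple_clopen k hdim ⊤ isOpen_univ Set.univ_nonempty
  let W : X.Opens := ⟨((⊤ : Closeds X) : Set X), isOpen_univ⟩
  have hW : W = ⊤ := rfl
  haveI : IsIso W.ι := by
    apply isIso_of_isOpenImmersion_of_opensRange_eq_top
    rw [Scheme.Opens.opensRange_ι, hW]
  haveI : IsNoetherian X := Groth.Inter.isNoetherian k
  haveI : CompactSpace W.toScheme := (W.ι.homeomorph).symm.compactSpace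
  obtain ⟨m, -, j, -, hj, hjf, -⟩ := Groth.PnCoh.exists_closedImmersion_of_isAmple
    (W.ι ≫ (X ↘ Spec (CommRingCat.of k))) (Groth.NagComp.Goodman.isAmple_of_isRelAmple_top hL)
  exact ⟨m, inv W.ι ≫ j, inferInstance, by rw [Category.assoc, hjf, IsIso.inv_hom_id_assoc]⟩

include k in
/-- Equidimensional smooth schemes have that relative dimension. -/
theorem smoothOfRelativeDimension_of_components {d : ℕ}
    (hdim : ∀ Z ∈ irreducibleComponents (X : Type u), topologicalKrullDim Z = d) :
    SmoothOfRelativeDimension d (X ↘ Spec (CommRingCat.of k)) := by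
  let f := X ↘ Spec (CommRingCat.of k)
  have hloc : ∀ x : X, FlatMor.localDim X x = d :=
    (Groth.FibreDim.forall_component_dim_eq_iff f d).1 hdim
  have hcov : ∀ x : X, ∃ W : X.Opens, x ∈ W ∧ SmoothOfRelativeDimension d (W.ι ≫ f) := fun x => by
    obtain ⟨n, W, hxW, hn⟩ := Groth.AlgSp3.exists_open_smoothOfRelativeDimension f x
    haveI := SmoothOfRelativeDimension.smooth n (W.ι ≫ f)
    have e := Groth.FibreDim.localDim_eq_add_of_flat (W.ι ≫ f) n
      (Groth.FibreDim.fibreDimAt_eq_of_smoothOfRelativeDimension n (W.ι ≫ f)) ⟨x, hxW⟩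
    rw [Groth.DescentBase.localDim_eq_of_etale W.ι, hloc, Groth.CurveDiv.localDim_spec_field, zero_add] at e
    obtain rfl : n = d := by exact_mod_cast e.symm
    exact ⟨W, hxW, hn⟩
  choose W hW hs using hcov
  exact IsZariskiLocalAtSource.of_iSup_eq_top (P := @SmoothOfRelativeDimension d) W
    (eq_top_iff.2 fun x _ => Opens.mem_iSup.2 ⟨x, hW x⟩) hs

/-- The top forms of a smooth proper surface are invertible and give the duality. -/
theorem dualEuler_topForms_of_components
    (hdim : ∀ Z ∈ irreducibleComponents (X : Type u), topologicalKrullDim Z = 2)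
    {W : X.Modules} (hW : ExtPow.IsExtPow 2 (Omega.sheaf (X ↘ Spec (CommRingCat.of k))) W) :
    PicF.IsInvertible W ∧ DualEuler k W := by
  haveI := smoothOfRelativeDimension_of_components k (d := 2) hdim
  have hWi := Groth.LocFree.isInvertible_det
    (Groth.OmegaSheaf.isFinLocFreeOfRank_sheaf (X ↘ Spec (CommRingCat.of k)) 2) hW
  refine ⟨hWi, ?_⟩
  rcases isEmpty_or_nonempty X with hX | hX
  · intro L L' _ _
    have hz : ∀ M : X.Modules, IsZero M := fun M =>
      (QCohMod.isZero_iff_stalk M).2 fun x => (IsEmpty.false x).elim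
    rw [Groth.Inter.euler_of_isZero k (hz _), Groth.Inter.euler_of_isZero k (hz _)]
  obtain ⟨N, ι, hc, hι⟩ := exists_embedding_of_smooth k hdim
  obtain ⟨t, ht⟩ := Groth.Duality.SmoothDual.exists_dualizing ι hι W hW
  have he : ∀ η : X, IsMax η → Order.height η = (2 : ℕ) :=
    Groth.Duality.SmoothDual.height_eq (X ↘ Spec (CommRingCat.of k)) 2
  have hn : topologicalKrullDim ↥X = ((2 : ℕ) : WithBot ℕ∞) := by
    refine le_antisymm (Groth.Duality.SmoothDual.topologicalKrullDim_le (X ↘ Spec (CommRingCat.of k)) 2) ?_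
    obtain ⟨η, -, hη⟩ := Groth.FibreDim.exists_genericPoint_specializes (Classical.arbitrary X)
    rw [Groth.Variety2.Dim.dim_eq_iSup_height]
    refine le_iSup_of_le η ?_
    rw [he η (Groth.FibreDim.isMax_of_mem_genericPoints hη)]
    exact le_rfl
  refine dualEuler_of_dualizing k ι hn (fun x hx => ⟨?_, ?_⟩)
    (Groth.Inter.isCoh_of_isInvertible hWi) t ht
  · haveI : IsNoetherian X := Groth.Inter.isNoetherian k
    haveI := isRegularLocalRing_stalk k x
    exact Groth.Calg4.isCohenMacaulayLocalRing_of_isRegularLocalRing _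
  · haveI : IsNoetherian X := Groth.Inter.isNoetherian k
    have h := Groth.Flatmor4.height_add_dim_stalk_of_equidim (X ↘ Spec (CommRingCat.of k)) he x
    rw [Order.height_eq_zero.2 fun y hy => le_of_eq
      ((Scheme.le_iff_specializes.1 hy).mem_closed hx rfl).symm] at h
    simpa using h

end Groth.SurfRR
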