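import Groth.Agent.SurfRR.Projective
import Groth.Agent.AffineDiv.Main
import Groth.Agent.PnCoh.AmpleVanishing

/-!
# Smooth proper connected surfaces are projective
-/

set_option autoImplicit false
set_option linter.style.haveILetI false

universe u

open CategoryTheory CategoryTheory.Limits AlgebraicGeometry TopologicalSpace

namespace Groth.SurfRR

variable (k : Type u) [Field k] {X : Scheme.{u}} [X.Over (Spec (CommRingCat.of k))]

include k in
theorem isIntegral_of_smooth_connected [IsProper (X ↘ Spec (CommRingCat.of k))]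
    [Smooth (X ↘ Spec (CommRingCat.of k))] [ConnectedSpace X] : IsIntegral X := by
  haveI : IsNoetherian X := Groth.Inter.isNoetherian k
  have hdom : ∀ x : X, IsDomain (X.presheaf.stalk x) := fun x =>
    haveI := isRegularLocalRing_stalk k x
    Groth.Ega4Algebra1.isDomain_of_isRegularLocalRing _
  haveI : IrreducibleSpace X := Groth.SmoothWeil.irreducibleSpace_of_connected X hdom
  haveI : ∀ x : X, _root_.IsReduced (X.presheaf.stalk x) := fun x =>
    haveI := hdom x
    inferInstance
  haveI : AlgebraicGeometry.IsReduced X := isReduced_of_isReduced_stalk X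
  exact isIntegral_of_irreducibleSpace_of_isReduced X

/-- A regular integral proper surface has a closed immersion into projective space. -/
theorem exists_embedding [IsProper (X ↘ Spec (CommRingCat.of k))] [IsIntegral X]
    (hdim : topologicalKrullDim X = 2) (hreg : ∀ x : X, IsRegularLocalRing (X.presheaf.stalk x)) :
    ∃ (N : ℕ) (ι : X ⟶ CohB1.ProjSpace N k), IsClosedImmersion ι ∧
      ι ≫ CohB1.ProjSpace.toSpec N k = X ↘ Spec (CommRingCat.of k) := by
  obtain ⟨U, hU, hx, -⟩ := exists_isAffineOpen_mem_and_subset
    (U := (⊤ : X.Opens)) (x := genericPoint X) trivial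
  obtain ⟨I, hI, -, hamp⟩ := Groth.AffineDiv.exists_ample_divisor k hdim hreg hU ⟨_, hx⟩
  obtain ⟨L, hL, hIL⟩ := Groth.PicAux.exists_isInverseOf (Groth.PicAux.isInvertible_idealMod hI)
  have hL' := Groth.PicAux.isInvertible_of_isInverseOf (Groth.PicAux.isInvertible_idealMod hI) hIL
  obtain ⟨m, -, j, -, hj, hjf, -⟩ := Groth.PnCoh.exists_closedImmersion_of_isAmple
    (X ↘ Spec (CommRingCat.of k)) (hamp L hL' (Groth.PicAux.isInverseOf_symm hIL))
  exact ⟨m, j, hj, hjf⟩

/-- The top forms of a smooth proper connected surface are invertible and give the duality. -/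
theorem dualEuler_topForms_of_connected [IsProper (X ↘ Spec (CommRingCat.of k))]
    [Smooth (X ↘ Spec (CommRingCat.of k))] [ConnectedSpace X] (hdim : topologicalKrullDim X = 2)
    {W : X.Modules} (hW : ExtPow.IsExtPow 2 (Omega.sheaf (X ↘ Spec (CommRingCat.of k))) W) :
    PicF.IsInvertible W ∧ DualEuler k W := by
  haveI := isIntegral_of_smooth_connected k (X := X)
  obtain ⟨N, ι, hc, hι⟩ := exists_embedding k hdim (isRegularLocalRing_stalk k)
  exact dualEuler_topForms k hdim ι hι hW

end Groth.SurfRR
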