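import Groth.Agent.Inter.Surface
import Groth.Agent.ZetaAn.ProdCurves
import Groth.Agent.Duality.ClosedDual
import Groth.Agent.Duality.DualPair
import Groth.Agent.Duality.PnExtStalk
import Groth.Agent.LocFree.ExtPow

/-!
# Riemann–Roch on a surface from the duality `χ(L) = χ(W ⊗ L⁻¹)`
-/

set_option autoImplicit false
set_option linter.style.haveILetI false

universe u

open CategoryTheory CategoryTheory.Limits AlgebraicGeometry TopologicalSpace

namespace Groth.SurfRR

open Groth.Inter Groth.PicAux

variable (k : Type u) [Field k] {X : Scheme.{u}} [X.Over (Spec (CommRingCat.of k))]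
  [IsProper (X ↘ Spec (CommRingCat.of k))]

/-- `W` behaves like a dualizing module on Euler characteristics of invertible modules. -/
def DualEuler (W : X.Modules) : Prop :=
  ∀ L L' : X.Modules, PicF.IsInvertible L → ClSub.IsInverseOf L L' →
    Curv2.euler k X L = Curv2.euler k X (CohB1.tensorMod W L')

omit [IsProper (X ↘ Spec (CommRingCat.of k))] in
theorem pair_eq (A B : X.Modules) :
    pair k A B = Curv2.euler k X (Coh.structureModule X) - Curv2.euler k X B -
      Curv2.euler k X A + Curv2.euler k X (CohB1.tensorMod B A) := by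
  simp only [Groth.Inter.pair, delta_cons, delta_nil]
  rw [EulerDeg.euler_congr k (tensor_comm B (Coh.structureModule X)).some,
    EulerDeg.euler_congr k (tensor_one B).some,
    EulerDeg.euler_congr k (tensor_comm A (Coh.structureModule X)).some,
    EulerDeg.euler_congr k (tensor_one A).some,
    EulerDeg.euler_congr k (tensor_congr ⟨Iso.refl B⟩
      ⟨(tensor_comm A (Coh.structureModule X)).some ≪≫ (tensor_one A).some⟩).some]
  ring

/-- Riemann–Roch for invertible modules on a surface with duality. -/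
theorem riemannRoch (hdim : topologicalKrullDim X ≤ (2 : ℕ)) {W : X.Modules}
    (hW : PicF.IsInvertible W) (hD : DualEuler k W) {L : X.Modules} (hL : PicF.IsInvertible L) :
    2 * Curv2.euler k X L =
      FGA.intNum k X 2 ![L, L] (Coh.structureModule X) - FGA.intNum k X 2 ![L, W] (Coh.structureModule X) +
        2 * Curv2.euler k X (Coh.structureModule X) := by
  obtain ⟨L', -, hLL'⟩ := exists_isInverseOf hL
  have hL' := isInvertible_of_isInverseOf hL hLL'
  have h1 := pair_eq k L' W
  rw [pair_inverse k hdim hL hLL' hW] at h1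
  have hO : Curv2.euler k X W = Curv2.euler k X (Coh.structureModule X) := by
    have := hD (Coh.structureModule X) (Coh.structureModule X)
      (EulerDeg.isInvertible_structureModule X) (tensor_one _)
    rw [this]
    exact (EulerDeg.euler_congr k ((tensor_comm _ _).some ≪≫ (tensor_one W).some)).symm
  rw [← hD L L' hL hLL', hO] at h1
  have h2 := pair_eq k L L'
  rw [pair_comm k L L', pair_inverse k hdim hL hLL' hL,
    EulerDeg.euler_congr k ((tensor_comm _ _).some ≪≫ hLL'.some)] at h2
  rw [intNum_eq_pair k hdim, intNum_eq_pair k hdim]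
  linarith

set_option maxHeartbeats 1000000 in
/-- The adjunction formula for an effective Cartier divisor. -/
theorem adjunction (hdim : topologicalKrullDim X ≤ (2 : ℕ)) {W : X.Modules}
    (hW : PicF.IsInvertible W) (hD : DualEuler k W) {C : Scheme.{u}}
    [C.Over (Spec (CommRingCat.of k))] (i : C ⟶ X) [IsClosedImmersion i]
    (hi : i ≫ (X ↘ Spec (CommRingCat.of k)) = C ↘ Spec (CommRingCat.of k))
    (hI : PicF.IsInvertible (ClSub.idealMod i.ker)) :
    FGA.intNum k X 2 ![ClSub.idealMod i.ker, ClSub.idealMod i.ker] (Coh.structureModule X) -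
        FGA.intNum k X 2 ![ClSub.idealMod i.ker, W] (Coh.structureModule X) =
      -2 * Curv2.euler k C (Coh.structureModule C) := by
  have hN : IsNoetherian X := Groth.Inter.isNoetherian k
  have h := riemannRoch k hdim hW hD hI
  have hq : Coh.IsCoh (ClSub.quotMod i.ker) := EulerDeg.isCoh_quotMod i.ker
  have hadd := Inter.euler_add k (shortExact_idealMod i.ker) (isCoh_of_isInvertible hI) hq
  change Curv2.euler k X (Coh.structureModule X) =
    Curv2.euler k X (ClSub.idealMod i.ker) + Curv2.euler k X (ClSub.quotMod i.ker) at hadd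
  rw [ZetaAn.ProdCurves.euler_quotMod k i hi] at hadd
  linarith

/-- `W` gives the duality of dimensions of cohomology of invertible modules. -/
def DualDim (W : X.Modules) : Prop :=
  ∀ L L' : X.Modules, PicF.IsInvertible L → ClSub.IsInverseOf L L' → ∀ i : ℕ, i ≤ 2 →
    Module.finrank k (Coh.HH X (CohB1.tensorMod W L') i) = Module.finrank k (Coh.HH X L (2 - i))

theorem dualEuler_of_dualDim (hdim : topologicalKrullDim X ≤ (2 : ℕ)) {W : X.Modules} (h : DualDim k W) :
    DualEuler k W := by
  intro L L' hL hLL'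
  have key := h L L' hL hLL'
  rw [euler_eq_three k hdim, euler_eq_three k hdim, key 0 (by omega), key 1 (by omega), key 2 le_rfl]
  ring

/-- A dualizing module of a Cohen–Macaulay projective surface gives the duality. -/
theorem dualDim_of_dualizing {N : ℕ} (ι : X ⟶ CohB1.ProjSpace N k) [IsClosedImmersion ι]
    (hn : topologicalKrullDim ↥X = ((2 : ℕ) : WithBot ℕ∞))
    (hCM : ∀ x : X, IsClosed ({x} : Set ↥X) →
      LocCoh.IsCohenMacaulayLocalRing (X.presheaf.stalk x) ∧ ringKrullDim (X.presheaf.stalk x) = (2 : ℕ))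
    {ω : X.Modules} (hω : Coh.IsCoh ω) (t : Coh.HH X ω 2 →ₗ[k] k)
    (hdual : ∀ F : X.Modules, Coh.IsCoh F → ∀ ψ : Coh.HH X F 2 →ₗ[k] k,
        ∃! φ : F ⟶ ω, ∀ x : Coh.HH X F 2,
          ψ x = t (Sheaf.H.map ((SheafOfModules.toSheaf X.ringCatSheaf).map φ) 2 x)) :
    DualDim k ω := by
  intro L L' hL hLL' i hi
  have hN := Groth.Duality.Closed.isNoetherian ι
  haveI := Groth.PnCoh.isLocallyNoetherian_projSpace N k
  haveI : HasExt.{u} X.Modules := hasExt_of_enoughInjectives _
  haveI := Groth.Duality.SheafHom.hasSheafHom L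
  have hF : FlatMod.IsFinLocFree L :=
    LocFree.isFinLocFree_of_rank (LocFree.isInvertible_iff_ofRank_one.1 hL)
  have hcov := Groth.Duality.Closed.hasAcyclicCovers ι hω (d := 2) (s := 2)
    fun q hq _ => (Groth.Duality.Closed.forall_vanish_iff_cm ι hn).2 hCM q hq
  obtain ⟨c⟩ := Groth.Duality.SheafHom.nonempty_sheafHom_inverse_app hLL' ω
  obtain ⟨a⟩ := Groth.Duality.SheafHom.nonempty_ext_linearEquiv k L hF i ω
  obtain ⟨b⟩ := Groth.Duality.DualPair.nonempty_linearEquiv t hdual hcov hi le_rfl
    (isCoh_of_isInvertible hL)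
  rw [← EulerDeg.finrank_congr (k := k) c i, ← (a.symm ≪≫ₗ b).symm.finrank_eq,
    Subspace.dual_finrank_eq]

theorem dualEuler_of_dualizing {N : ℕ} (ι : X ⟶ CohB1.ProjSpace N k) [IsClosedImmersion ι]
    (hn : topologicalKrullDim ↥X = ((2 : ℕ) : WithBot ℕ∞))
    (hCM : ∀ x : X, IsClosed ({x} : Set ↥X) →
      LocCoh.IsCohenMacaulayLocalRing (X.presheaf.stalk x) ∧ ringKrullDim (X.presheaf.stalk x) = (2 : ℕ))
    {ω : X.Modules} (hω : Coh.IsCoh ω) (t : Coh.HH X ω 2 →ₗ[k] k)
    (hdual : ∀ F : X.Modules, Coh.IsCoh F → ∀ ψ : Coh.HH X F 2 →ₗ[k] k,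
        ∃! φ : F ⟶ ω, ∀ x : Coh.HH X F 2,
          ψ x = t (Sheaf.H.map ((SheafOfModules.toSheaf X.ringCatSheaf).map φ) 2 x)) :
    DualEuler k ω :=
  dualEuler_of_dualDim k hn.le (dualDim_of_dualizing k ι hn hCM hω t hdual)

end Groth.SurfRR
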